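import Groth.Agent.PicRelC.Deg
import Groth.Agent.S12411
import Groth.Agent.CurveFibDeg.Geom
import Groth.Agent.PicCurve.DegFunctor

/-!
# The Picard scheme of degree zero of a smooth proper relative curve and its geometric fibres
-/

noncomputable section

set_option autoImplicit false
set_option linter.style.haveILetI false
set_option linter.unusedSectionVars false
set_option backward.isDefEq.respectTransparency false
set_option backward.isDefEq.respectTransparency.types false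
set_option maxHeartbeats 1000000
set_option synthInstance.maxHeartbeats 400000
attribute [-instance] CategoryTheory.catToReflQuiver

universe u

open CategoryTheory CategoryTheory.Limits AlgebraicGeometry TopologicalSpace Opposite
open Groth.Agent.H23.PicMul

namespace Groth.Agent.PicRelC

open PicCurve

/-- points of a fine Jacobian with the same class are equal -/
theorem eq_of_rigPull' {k : Type u} [Field k] {X : Scheme.{u}} (f' : X ⟶ Spec (CommRingCat.of k)) [IsProper f']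
      (σ : Spec (CommRingCat.of k) ⟶ X) (hσ : σ ≫ f' = 𝟙 _) {J : Over (Spec (CommRingCat.of k))}
      (ξ : PicF.Rig f' σ hσ J) (hξ : FGA.HasFibreDegreeZeroCl f' J ξ.1)
      (huniv : ∀ (T : Over (Spec (CommRingCat.of k))) (c : PicF.Rig f' σ hσ T), FGA.HasFibreDegreeZeroCl f' T c.1 →
        ∃! g : T ⟶ J, PicF.pullCl (PicF.XTmap f' g) ξ.1 = c.1)
      {T : Over (Spec (CommRingCat.of k))} {a b : T ⟶ J}
      (h : rigPull f' σ hσ a ξ = rigPull f' σ hσ b ξ) : a = b :=
    (huniv T _ (rig0Pull f' σ hσ b ⟨ξ, hξ⟩).2).unique (congrArg Subtype.val h) rfl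

variable {C S : Scheme.{u}} (f : C ⟶ S) [IsProper f] [Smooth f] [GeometricallyConnected f]
  (hdim : ∀ s : S, topologicalKrullDim ↥(f.fiber s) = 1)

include hdim in
/-- classes algebraically equivalent to zero are the classes of degree zero -/
theorem isPicZeroCl_iff {T : Over S} (c : PicF.Cl (PicF.XT f T)) :
    AbDual.IsPicZeroCl f T c ↔ PicF.IsInvertibleCl c ∧ ∀ t, degC f c t = 0 := by
  constructor
  · rintro ⟨L, rfl, hL, h⟩
    refine ⟨⟨L, rfl, hL⟩, fun t => ?_⟩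
    rw [degC_cl, sub_eq_zero, ← eulerCharLE_fibre f T L t, ← eulerCharLE_fibre f T _ t,
      CurveFibDeg.deg_eq_of_isAlgTrivialAt f (fun s => (hdim s).le) T hL t (h t)]
    exact JacTangent.eulerCharLE_iso (CurveBC.unitIso _).symm 1
  · rintro ⟨⟨L, rfl, hL⟩, h⟩
    refine ⟨L, rfl, hL, fun t Ω _ _ σ hσ => ?_⟩
    let π := PicF.XTproj f T
    let Z := pullback π σ
    let π' : Z ⟶ Spec (CommRingCat.of Ω) := pullback.snd π σ
    letI : Z.Over (Spec (CommRingCat.of Ω)) := ⟨π'⟩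
    haveI : IsProper π := inferInstanceAs (IsProper (pullback.snd f T.hom))
    haveI : Smooth π := inferInstanceAs (Smooth (pullback.snd f T.hom))
    haveI : GeometricallyConnected π := inferInstanceAs (GeometricallyConnected (pullback.snd f T.hom))
    haveI : IsProper (Z ↘ Spec (CommRingCat.of Ω)) := inferInstanceAs (IsProper (pullback.snd π σ))
    haveI : Smooth (Z ↘ Spec (CommRingCat.of Ω)) := inferInstanceAs (Smooth (pullback.snd π σ))
    haveI : GeometricallyConnected π' := inferInstanceAs (GeometricallyConnected (pullback.snd π σ))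
    haveI : ConnectedSpace Z := GeometricallyConnected.connectedSpace_of_subsingleton π'
    let e : Z ≅ pullback f (σ ≫ T.hom) := pullbackLeftPullbackSndIso f T.hom σ
    have hdimZ : topologicalKrullDim Z = 1 := by
      rw [(Scheme.homeoOfIso e).isHomeomorph.topologicalKrullDim_eq, CurveFibDeg.topologicalKrullDim_fieldFibre f]
      exact hdim _
    refine (Groth.Agent.S12411.result Ω Z hdimZ _ (PicClLib.isInvertible_pullback _ hL)).2 ?_
    have hz : σ (IsLocalRing.closedPoint Ω) = t :=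
      Set.mem_singleton_iff.1 (hσ ▸ Set.mem_range_self (f := σ.base) (IsLocalRing.closedPoint Ω))
    have hchi : ∀ M : Z.Modules, Coh.IsQCoh M →
        @FGA.eulerCharLE Ω _ Z ⟨π'⟩ M 1 = chiAt π' M (IsLocalRing.closedPoint Ω) := fun M hM => by
      show (Finset.range 2).sum _ = _
      rw [Finset.sum_range_succ, Finset.sum_range_one, pow_zero, _root_.one_mul, pow_one, neg_one_mul, chiAt,
        QuotRep.fiberRank_field π' hM 0, QuotRep.fiberRank_field π' hM 1, sub_eq_add_neg]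
    show Pic13.curveDeg Ω π' _ = 0
    rw [Pic13.curveDeg, hchi _ (isQCoh_inv (PicClLib.isInvertible_pullback _ hL)),
      hchi _ (PnCoh.isQCoh_structureModule _), chiAt_bc π (IsPullback.of_hasPullback π σ) (isQCoh_inv hL),
      ← chiAt_congr π' (CurveBC.unitIso (pullback.fst π σ)) _,
      chiAt_bc π (IsPullback.of_hasPullback π σ) (PnCoh.isQCoh_structureModule _), hz, ← degC_cl f L t]
    exact h t

include hdim in
theorem isPicZeroCl_pull {T T' : Over S} (g : T' ⟶ T) {c : PicF.Cl (PicF.XT f T)}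
    (hc : AbDual.IsPicZeroCl f T c) : AbDual.IsPicZeroCl f T' (PicF.pullCl (PicF.XTmap f g) c) := by
  obtain ⟨hi, h⟩ := (isPicZeroCl_iff f hdim c).1 hc
  exact (isPicZeroCl_iff f hdim _).2 ⟨FppfPic.isInvertibleCl_pull _ hi, fun t => (degC_pull f g hi t).trans (h _)⟩

variable {P₀ : Over S} {φ₀ : ∀ T : Over S, PicF.Cl (PicF.XT f T) → (T ⟶ P₀)}
  (hP₀ : AbDual.IsRelPicZeroK Scheme.fppfPrecoverage f P₀ φ₀)

include hdim hP₀

/-- every point comes from a class of degree zero on a covering -/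
theorem exists_cl_cover0 (T : Over S) (g : T ⟶ P₀) :
    ∃ (U : Scheme.{u}) (u : U ⟶ T.left), Flat u ∧ LocallyOfFinitePresentation u ∧ Surjective u ∧
      ∃ c, AbDual.IsPicZeroCl f (AbDual.ovr T u) c ∧ φ₀ (AbDual.ovr T u) c = AbDual.ovrHom T u ≫ g := by
  obtain ⟨R, hR, he⟩ := hP₀.locallySurjective T g
  obtain ⟨ι, U, u, hu, hfl, hlfp, hs⟩ := FppfPic.exists_sigma_cover hR
  let h' : ∀ i, AbDual.ovr T (u i) ⟶ AbDual.ovr T (Sigma.desc u) := fun i => Over.homMk (Sigma.ι U i) (by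
    show Sigma.ι U i ≫ Sigma.desc u ≫ T.hom = u i ≫ T.hom
    rw [Sigma.ι_desc_assoc])
  obtain ⟨ho, hcov, hdisj⟩ := FppfPic.sigma_pieces f U u h' fun _ => rfl
  haveI := ho
  choose c₀ hc₀ hφ₀ using fun i => he (u i) (hu i)
  choose L hLc hL using fun i => ((isPicZeroCl_iff f hdim _).1 (hc₀ i)).1
  obtain ⟨M, hM, hMi⟩ := FppfPic.exists_disjoint_module _ (fun i => PicF.XTmap f (h' i)) hcov
    (fun a b hab => disjoint_iff.2 (Opens.ext (disjoint_iff.1 (hdisj a b hab)))) L hL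
  have hz : AbDual.IsPicZeroCl f (AbDual.ovr T (Sigma.desc u)) (PicF.cl M) := by
    refine (isPicZeroCl_iff f hdim _).2 ⟨⟨M, rfl, hM⟩, fun t => ?_⟩
    obtain ⟨i, y, rfl⟩ := (sigmaOpenCover U).exists_eq t
    have := degC_pull f (h' i) (⟨M, rfl, hM⟩ : PicF.IsInvertibleCl (PicF.cl M)) y
    rw [hMi i, hLc i] at this
    exact this.symm.trans (((isPicZeroCl_iff f hdim _).1 (hc₀ i)).2 y)
  refine ⟨∐ U, Sigma.desc u, hfl, hlfp, hs, PicF.cl M, hz, ?_⟩
  apply Over.OverMorphism.ext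
  refine Sigma.hom_ext (f := U) _ _ fun i => ?_
  have e := hP₀.natural _ _ (h' i) (PicF.cl M) hz
  rw [hMi i, hLc i, hφ₀ i] at e
  have e' := congrArg Over.Hom.left e
  rw [Over.comp_left, Over.comp_left] at e'
  rw [Over.comp_left]
  exact e'.symm.trans ((congrArg (· ≫ g.left) (Sigma.ι_desc u i).symm).trans (Category.assoc _ _ _))

/-- classes from the base do not change the point -/
theorem φ₀_mul_base {T : Over S} {c : PicF.Cl (PicF.XT f T)} (hc : AbDual.IsPicZeroCl f T c) {n : PicF.Cl T.left}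
    (hn : PicF.IsInvertibleCl n) (hc' : AbDual.IsPicZeroCl f T (c * PicF.pullCl (PicF.XTproj f T) n)) :
    φ₀ T (c * PicF.pullCl (PicF.XTproj f T) n) = φ₀ T c := by
  choose V hV he using fun t => exists_open_trivial hn t
  apply Over.OverMorphism.ext
  refine (T.left.openCoverOfIsOpenCover V (eq_top_iff.2 fun t _ => Opens.mem_iSup.2 ⟨t, hV t⟩)).hom_ext _ _ fun t => ?_
  show (V t).ι ≫ _ = (V t).ι ≫ _
  let g := AbDual.ovrHom T (V t).ι
  have h : PicF.pullCl (PicF.XTmap f g) (c * PicF.pullCl (PicF.XTproj f T) n) = PicF.pullCl (PicF.XTmap f g) c := by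
    rw [pullCl_mul, pull_proj, show g.left = (V t).ι from rfl, he t, pullCl_one, _root_.mul_one]
  have e := congrArg Over.Hom.left
    ((hP₀.natural T _ g _ hc').symm.trans ((congrArg (φ₀ _) h).trans (hP₀.natural T _ g _ hc)))
  rw [Over.comp_left, Over.comp_left] at e
  exact e

section Geom

variable {Ω : Type u} [Field Ω] [IsAlgClosed Ω] (σ : Spec (CommRingCat.of Ω) ⟶ S)
  [IsProper (fG f σ)] [Smooth (fG f σ)] [SmoothOfRelativeDimension 1 (fG f σ)] [GeometricallyIntegral (fG f σ)]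
  [IsIntegral (pullback f σ)] (p : Spec (CommRingCat.of Ω) ⟶ pullback f σ) (hp : p ≫ fG f σ = 𝟙 _)
  {J : Over (Spec (CommRingCat.of Ω))} (ξ : PicF.Rig (fG f σ) p hp J)
  (hξ : FGA.HasFibreDegreeZeroCl (fG f σ) J ξ.1)
  (huniv : ∀ (T : Over (Spec (CommRingCat.of Ω))) (c : PicF.Rig (fG f σ) p hp T),
    FGA.HasFibreDegreeZeroCl (fG f σ) T c.1 → ∃! g : T ⟶ J, PicF.pullCl (PicF.XTmap (fG f σ) g) ξ.1 = c.1)

theorem isPicZeroCl_clG {T : Over (Spec (CommRingCat.of Ω))} {c : PicF.Rig (fG f σ) p hp T}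
    (hc : FGA.HasFibreDegreeZeroCl (fG f σ) T c.1) : AbDual.IsPicZeroCl f (ovG σ T) (clG f σ c.1) :=
  (isPicZeroCl_iff f hdim _).2 ⟨isInvertibleCl_clG f σ c.2.1, fun t =>
    (deg0At_iff_degC f _ t).1 ((deg0At_clG f σ c.2.1 t).2 ((hasFibreDegreeZeroCl_iff _ _).1 hc t))⟩

/-- the map of the Jacobian of a geometric fibre to the degree zero Picard scheme -/
def toP₀ : ovG σ J ⟶ P₀ := φ₀ (ovG σ J) (clG f σ ξ.1)

include hξ in
theorem ovGmap_toP₀ {T : Over (Spec (CommRingCat.of Ω))} (a : T ⟶ J) :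
    ovGmap σ a ≫ toP₀ (φ₀ := φ₀) f σ p hp ξ = φ₀ (ovG σ T) (clG f σ (rigPull (fG f σ) p hp a ξ).1) := by
  show _ = φ₀ _ (clG f σ (PicF.pullCl _ ξ.1))
  rw [clG_pull]
  exact (hP₀.natural _ _ _ _ (isPicZeroCl_clG f hdim hP₀ σ p hp (c := ξ) hξ)).symm

include hξ huniv in
/-- points of the Jacobian with the same image are equal -/
theorem toP₀_inj {T : Over (Spec (CommRingCat.of Ω))} {a b : T ⟶ J}
    (h : ovGmap σ a ≫ toP₀ (φ₀ := φ₀) f σ p hp ξ = ovGmap σ b ≫ toP₀ (φ₀ := φ₀) f σ p hp ξ) : a = b := by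
  rw [ovGmap_toP₀ f hdim hP₀ σ p hp ξ hξ, ovGmap_toP₀ f hdim hP₀ σ p hp ξ hξ] at h
  have hz : ∀ a : T ⟶ J, AbDual.IsPicZeroCl f (ovG σ T) (clG f σ (rigPull (fG f σ) p hp a ξ).1) := fun a =>
    isPicZeroCl_clG f hdim hP₀ σ p hp (rig0Pull (fG f σ) p hp a ⟨ξ, hξ⟩).2
  obtain ⟨R, hR, he⟩ := hP₀.locallyInjective _ _ _ (hz a) (hz b) h
  obtain ⟨ι, U, u, hu, hfl, -, hsur⟩ := FppfPic.exists_sigma_cover hR
  haveI := hfl; haveI := hsur
  haveI := Flat.epi_of_flat_of_surjective (Sigma.desc u)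
  refine Over.OverMorphism.ext ((cancel_epi (Sigma.desc u)).1 (Sigma.hom_ext _ _ fun i => ?_))
  rw [← Category.assoc, ← Category.assoc, Sigma.ι_desc]
  let TU : Over (Spec (CommRingCat.of Ω)) := Over.mk (u i ≫ T.hom)
  let g : TU ⟶ T := Over.homMk (u i)
  let w : ovG σ TU ⟶ AbDual.ovr (ovG σ T) (u i) := Over.homMk (𝟙 (U i)) (by
    show 𝟙 _ ≫ u i ≫ T.hom ≫ σ = (u i ≫ T.hom) ≫ σ
    rw [Category.id_comp, Category.assoc])
  have hw : w ≫ AbDual.ovrHom (ovG σ T) (u i) = ovGmap σ g := Over.OverMorphism.ext (Category.id_comp _)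
  have e := congrArg (PicF.pullCl (PicF.XTmap f w)) (he (u i) (hu i))
  simp only [FppfPic.pullCl_XTmap_comp] at e
  rw [hw, ← clG_pull, ← clG_pull] at e
  have e2 := congrArg (clG' f σ) e
  rw [clG'_clG, clG'_clG] at e2
  have e3 : g ≫ a = g ≫ b := by
    refine eq_of_rigPull' (fG f σ) p hp ξ hξ huniv (Subtype.ext ?_)
    rw [← rigPull_comp, ← rigPull_comp]
    exact e2
  exact congr($(e3).left)

include hξ huniv in
/-- the geometric fibre of the degree zero Picard scheme is the Jacobian -/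
theorem isPullback_toP₀ : IsPullback (toP₀ (φ₀ := φ₀) f σ p hp ξ).left J.hom P₀.hom σ := by
  let Φ := toP₀ (φ₀ := φ₀) f σ p hp ξ
  let T₀ : Over (Spec (CommRingCat.of Ω)) := Over.mk (pullback.snd P₀.hom σ)
  let g₀ : ovG σ T₀ ⟶ P₀ := Over.homMk (pullback.fst P₀.hom σ) pullback.condition
  obtain ⟨U, u, hfl, hlfp, hsur, c, hc, hφc⟩ := exists_cl_cover0 f hdim hP₀ (ovG σ T₀) g₀
  haveI := hfl; haveI := hlfp; haveI := hsur
  let TU : Over (Spec (CommRingCat.of Ω)) := Over.mk (u ≫ T₀.hom)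
  let q : TU ⟶ T₀ := Over.homMk u
  let w : ovG σ TU ⟶ AbDual.ovr (ovG σ T₀) u := Over.homMk (𝟙 U) (by
    show 𝟙 _ ≫ u ≫ T₀.hom ≫ σ = (u ≫ T₀.hom) ≫ σ
    rw [Category.id_comp, Category.assoc])
  have hw : w ≫ AbDual.ovrHom (ovG σ T₀) u = ovGmap σ q := Over.OverMorphism.ext (Category.id_comp _)
  let c' := PicF.pullCl (PicF.XTmap f w) c
  have hc' : AbDual.IsPicZeroCl f (ovG σ TU) c' := isPicZeroCl_pull f hdim w hc
  obtain ⟨hci, hcd⟩ := (isPicZeroCl_iff f hdim _).1 hc'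
  have hφc' : φ₀ (ovG σ TU) c' = ovGmap σ q ≫ g₀ := by
    rw [hP₀.natural _ _ w c hc, hφc, ← Category.assoc, hw]
  let r := rigify (fG f σ) p hp (isInvertibleCl_clG' f σ hci)
  let n := PicF.pullCl (eT f σ TU).inv c'
  have hr : FGA.HasFibreDegreeZeroCl (fG f σ) TU r.1 := (hasFibreDegreeZeroCl_iff _ _).2 fun t => by
    refine (deg0At_iff (fG f σ) _ t).2 ?_
    rw [degCl_rigify (fG f σ) (curveDim f σ hdim) p hp (isInvertibleCl_clG' f σ hci)]
    refine (deg0At_iff (fG f σ) _ t).1 ?_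
    rw [← deg0At_clG f σ (isInvertibleCl_clG' f σ hci), clG_clG', deg0At_iff_degC]
    exact hcd t
  obtain ⟨m, hm, -⟩ := huniv TU r hr
  have hmΦ : ovGmap σ m ≫ Φ = ovGmap σ q ≫ g₀ := by
    rw [ovGmap_toP₀ f hdim hP₀ σ p hp ξ hξ, ← hφc']
    show φ₀ _ (clG f σ (PicF.pullCl _ ξ.1)) = _
    rw [hm]
    have hN := FppfPic.isInvertibleCl_pull (PicF.secT (fG f σ) p hp TU) (isInvertibleCl_clG' f σ hci)
    have e : clG f σ r.1 = c' * PicF.pullCl (PicF.XTproj f (ovG σ TU)) (invCl hN) := by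
      show clG f σ (clG' f σ c' * PicF.pullCl _ (invCl hN)) = _
      rw [clG_mul, clG_clG']
      congr 1
      show PicF.pullCl _ (PicF.pullCl _ _) = _
      rw [PicClLib.pullCl_comp, eT_snd]
    rw [e]
    exact φ₀_mul_base f hdim hP₀ hc' (isInvertibleCl_invCl _) (e ▸ isPicZeroCl_clG f hdim hP₀ σ p hp (c := r) hr)
  haveI : Flat q.left := hfl
  haveI : Surjective q.left := hsur
  haveI : LocallyOfFinitePresentation q.left := hlfp
  obtain ⟨d, hd⟩ := exists_desc q m fun R r₁ r₂ h => toP₀_inj f hdim hP₀ σ p hp ξ hξ huniv (by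
    have e1 : ∀ z : R ⟶ TU, ovGmap σ (z ≫ m) ≫ Φ = ovGmap σ (z ≫ q) ≫ g₀ := fun z => by
      rw [show ovGmap σ (z ≫ m) = ovGmap σ z ≫ ovGmap σ m from Over.OverMorphism.ext rfl, Category.assoc, hmΦ,
        ← Category.assoc, show ovGmap σ z ≫ ovGmap σ q = ovGmap σ (z ≫ q) from Over.OverMorphism.ext rfl]
    rw [e1 r₁, e1 r₂, h])
  have hdΦ : ovGmap σ d ≫ Φ = g₀ := by
    haveI : Flat (ovGmap σ q).left := hfl
    haveI : Surjective (ovGmap σ q).left := hsur
    haveI := epi_flat (ovGmap σ q)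
    rw [← cancel_epi (ovGmap σ q), ← Category.assoc,
      show ovGmap σ q ≫ ovGmap σ d = ovGmap σ (q ≫ d) from Over.OverMorphism.ext rfl, hd, hmΦ]
  have hw0 : Φ.left ≫ P₀.hom = J.hom ≫ σ := Over.w Φ
  let v : J ⟶ T₀ := Over.homMk (pullback.lift Φ.left J.hom hw0) (pullback.lift_snd _ _ _)
  have hvd : v ≫ d = 𝟙 J := toP₀_inj f hdim hP₀ σ p hp ξ hξ huniv (by
    rw [show ovGmap σ (v ≫ d) = ovGmap σ v ≫ ovGmap σ d from Over.OverMorphism.ext rfl, Category.assoc, hdΦ,
      show ovGmap σ (𝟙 J) = 𝟙 _ from Over.OverMorphism.ext rfl, Category.id_comp]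
    exact Over.OverMorphism.ext (pullback.lift_fst _ _ _))
  have hdv : d.left ≫ v.left = 𝟙 _ := pullback.hom_ext
    (by
      rw [Category.assoc, Category.id_comp, show v.left ≫ pullback.fst P₀.hom σ = Φ.left from pullback.lift_fst _ _ _]
      exact congr($(hdΦ).left))
    (by
      rw [Category.assoc, Category.id_comp, show v.left ≫ pullback.snd P₀.hom σ = J.hom from pullback.lift_snd _ _ _]
      exact Over.w d)
  haveI : IsIso v.left := ⟨d.left, congr($(hvd).left), hdv⟩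
  exact IsPullback.of_iso_pullback ⟨hw0⟩ (asIso v.left) (pullback.lift_fst _ _ _) (pullback.lift_snd _ _ _)

end Geom

end Groth.Agent.PicRelC

end
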