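import Groth.Agent.PicRelC.Geom
import Groth.Agent.Synt29.SmoothDim
import Groth.Agent.GrpSchLib.UnramifiedFibre
import Groth.Agent.FlatMisc.Fibrewise
import Mathlib.AlgebraicGeometry.ZariskisMainTheorem
import Groth.Prelude.Def_ClSub2

/-!
# The Abel map of a smooth proper relative curve into the relative Picard scheme
-/

noncomputable section

set_option autoImplicit false
set_option linter.style.haveILetI false
set_option linter.unusedSectionVars false
set_option backward.isDefEq.respectTransparency false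
set_option backward.isDefEq.respectTransparency.types false
set_option maxHeartbeats 1000000
set_option synthInstance.maxHeartbeats 400000
attribute [-instance] CategoryTheory.catToReflQuiver

universe u

open CategoryTheory CategoryTheory.Limits AlgebraicGeometry TopologicalSpace Opposite
  MonoidalCategory CartesianMonoidalCategory
open Groth.Agent.H23.PicMul

namespace Groth.Agent.PicRelC

open PicCurve PicCurve.Alb HilbDLib

variable {C S : Scheme.{u}} (f : C ⟶ S) [IsProper f] [Smooth f] [GeometricallyConnected f]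
  (hdim : ∀ s : S, topologicalKrullDim ↥(f.fiber s) = 1)

include hdim in
/-- a smooth proper curve is smooth of relative dimension one -/
theorem smoothOfRelativeDimension_one : SmoothOfRelativeDimension 1 f := by
  choose U hU V hV e n hx hstd hsm hfd using fun x : C => Synt29.SmoothDim.exists_chart f x
  have hn : ∀ x, n x = 1 := fun x => by
    let Ω := AlgebraicClosure (S.residueField (f x))
    let σ : Spec (CommRingCat.of Ω) ⟶ S :=
      Spec.map (CommRingCat.ofHom (algebraMap (S.residueField (f x)) Ω)) ≫ S.fromSpecResidueField (f x)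
    obtain ⟨p, -, _, _, hs1, _, _, -⟩ := curve_facts f σ hdim
    obtain ⟨z, hz, -⟩ := Scheme.Pullback.exists_preimage_pullback (f := f) (g := σ) x
      (IsLocalRing.closedPoint Ω) (Scheme.fromSpecResidueField_apply _ _).symm
    let W : (pullback f σ).Opens := pullback.fst f σ ⁻¹ᵁ V x
    have hzW : z ∈ W := by
      show pullback.fst f σ z ∈ V x
      rw [hz]; exact hx x
    haveI := hsm x
    haveI := smoothOfRelativeDimension_isStableUnderBaseChange (n x)
    have hW : SmoothOfRelativeDimension (n x) (W.ι ≫ fG f σ) := by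
      have h := ((isPullback_morphismRestrict (pullback.fst f σ) (V x)).flip).paste_horiz (IsPullback.of_hasPullback f σ).flip
      exact MorphismProperty.of_isPullback (P := @SmoothOfRelativeDimension (n x)) h.flip (hsm x)
    haveI := hW
    haveI : SmoothOfRelativeDimension 1 ((⊤ : (pullback f σ).Opens).ι ≫ fG f σ) := by
      haveI := smoothOfRelativeDimension_isStableUnderBaseChange 1
      exact IsZariskiLocalAtSource.comp hs1 _
    have e1 := Synt29.SmoothDim.fibreDimAt_eq_of_nhd (fG f σ) W (n x) (x := z) hzW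
    have e2 := Synt29.SmoothDim.fibreDimAt_eq_of_nhd (fG f σ) ⊤ 1 (x := z) trivial
    exact_mod_cast e1.symm.trans e2
  rw [IsZariskiLocalAtSource.iff_of_iSup_eq_top (P := @SmoothOfRelativeDimension 1) (U := V)
    (eq_top_iff.2 fun x _ => Opens.mem_iSup.2 ⟨x, hx x⟩)]
  intro x
  exact hn x ▸ hsm x

variable (LΔ : (PicF.XT f (Over.mk f)).Modules) (hLΔ : PicF.IsInvertible LΔ)
  (hΔ : ClSub.IsInverseOf LΔ (ClSub.idealMod (pullback.diagonal f).ker))

include hdim hΔ in
/-- the diagonal class pulled back along a point is inverse to the ideal of the graph -/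
theorem pull_diag_mul {T : Over S} (x : T ⟶ Over.mk f) :
    PicF.pullCl (PicF.XTmap f x) (PicF.cl LΔ) * PicF.cl (ClSub.idealMod (gr x)) = 1 := by
  haveI := smoothOfRelativeDimension_one f hdim
  let D : (PicF.XT f (Over.mk f)).IdealSheafData := HilbD.secGraph f (Over.mk f) (𝟙 C) (Category.id_comp f)
  have hΔ' : ClSub.IsInverseOf LΔ (ClSub.idealMod D) := hΔ
  have hD : PicF.cl LΔ * PicF.cl (ClSub.idealMod D) = 1 := (cl_tensor _ _).symm.trans (cl_eq_iff.2 hΔ')
  have hcm : D.comap (PicF.XTmap f x) = gr x := by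
    rw [← pull_eq_comap, pull_diagonal]
    rfl
  have hI : PicF.pullCl (PicF.XTmap f x) (PicF.cl (ClSub.idealMod D)) = PicF.cl (ClSub.idealMod (gr x)) := by
    show PicF.cl _ = _
    rw [Big.cl_idealMod_comap (PicF.XTmap f x) D
      (RelCurveDiv.isEffCartier_of_finLocFree _ _ (deg_secGraph f (Over.mk f) (𝟙 C) (Category.id_comp f)).1).1
      (hcm ▸ (RelCurveDiv.isEffCartier_of_finLocFree _ _ (deg_secGraph f T x.left (Over.w x)).1).1), hcm]
  have h := congrArg (PicF.pullCl (PicF.XTmap f x)) hD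
  rw [pullCl_mul, pullCl_one, hI] at h
  exact h

variable {Ω : Type u} [Field Ω] [IsAlgClosed Ω] (σ : Spec (CommRingCat.of Ω) ⟶ S)

/-- a point of the curve over the geometric point as a point over the base -/
abbrev ptS {T : Over (Spec (CommRingCat.of Ω))} (x : T ⟶ Over.mk (fG f σ)) : ovG σ T ⟶ Over.mk f :=
  Over.homMk (x.left ≫ pullback.fst f σ) (by
    show (x.left ≫ pullback.fst f σ) ≫ f = T.hom ≫ σ
    rw [Category.assoc, pullback.condition, ← Category.assoc, show x.left ≫ pullback.snd f σ = T.hom from Over.w x])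

theorem sc_eT {T : Over (Spec (CommRingCat.of Ω))} (x : T ⟶ Over.mk (fG f σ)) :
    sc (ptS f σ x) ≫ (eT f σ T).hom = sc x := by
  refine pullback.hom_ext (pullback.hom_ext ?_ ?_) ?_
  · simp only [Category.assoc]
    rw [eT_fst, show sc x ≫ pullback.fst (fG f σ) T.hom ≫ pullback.fst f σ = x.left ≫ pullback.fst f σ from by
      rw [← Category.assoc, sec_fst]]
    exact sec_fst f _ _ _
  · simp only [Category.assoc, pullback.condition]
    rw [reassoc_of% (eT_snd f σ T), ← Category.assoc, show sc (ptS f σ x) ≫ PicF.XTproj f (ovG σ T) = 𝟙 _ from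
      sec_proj f _ _ _, ← Category.assoc, show sc x ≫ pullback.snd (fG f σ) T.hom = 𝟙 _ from sec_proj _ _ _ _]
    rfl
  · simp only [Category.assoc]
    rw [show (eT f σ T).hom ≫ pullback.snd (fG f σ) T.hom = PicF.XTproj f (ovG σ T) from eT_snd f σ T]
    exact (sec_proj f _ _ _).trans (sec_proj (fG f σ) T x.left (Over.w x)).symm

include hdim hΔ hLΔ in
/-- the diagonal class at a point over the geometric point -/
theorem clG'_diag [IsProper (fG f σ)] [Smooth (fG f σ)] [SmoothOfRelativeDimension 1 (fG f σ)]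
    [GeometricallyIntegral (fG f σ)] {T : Over (Spec (CommRingCat.of Ω))} (x : T ⟶ Over.mk (fG f σ)) :
    clG' f σ (PicF.pullCl (PicF.XTmap f (ptS f σ x)) (PicF.cl LΔ)) = oCl (fG f σ) (grObj (fG f σ) x) := by
  haveI := smoothOfRelativeDimension_one f hdim
  have hcm : (gr (ptS f σ x)).comap (eT f σ T).inv = gr x := by
    have hpb : IsPullback (sc x) (𝟙 T.left) (eT f σ T).inv (sc (ptS f σ x)) := by
      haveI : IsIso (𝟙 T.left) := inferInstanceAs (IsIso (Iso.refl T.left).hom)
      refine IsPullback.of_vert_isIso ⟨?_⟩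
      rw [Category.id_comp, Iso.comp_inv_eq, sc_eT]
    haveI : IsClosedImmersion (sc (ptS f σ x)) := isClosedImmersion_sec f _ _ _
    exact (FComplLib.ker_of_isPullback hpb).symm
  have h := congrArg (clG' f σ) (pull_diag_mul f hdim LΔ hΔ (ptS f σ x))
  rw [clG'_mul] at h
  rw [show clG' f σ (1 : PicF.Cl (PicF.XT f (ovG σ T))) = 1 from pullCl_one _] at h
  have hI : clG' f σ (PicF.cl (ClSub.idealMod (gr (ptS f σ x)))) = idl (fG f σ) (gr x) := by
    show PicF.cl _ = _
    rw [Big.cl_idealMod_comap (eT f σ T).inv _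
      (RelCurveDiv.isEffCartier_of_finLocFree _ _ (deg_secGraph f _ (ptS f σ x).left (Over.w (ptS f σ x))).1).1
      (hcm ▸ (RelCurveDiv.isEffCartier_of_finLocFree _ _ (grObj (fG f σ) x).2.1).1), hcm]
  rw [hI, mul_comm] at h
  exact eq_invCl _ h

variable {P : Over S} {φ : ∀ T : Over S, PicF.Cl (PicF.XT f T) → (T ⟶ P)}
  (hP : AbDual.IsRelPicK Scheme.fppfPrecoverage f P φ)

include hdim hΔ hLΔ hP in
/-- the Abel map is injective on points over a geometric point -/
theorem inj_geom (hg : ∀ s : S, 1 ≤ CohIII.fiberRank f (Coh.structureModule C) 1 s)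
    {T : Over (Spec (CommRingCat.of Ω))} (x y : T ⟶ Over.mk (fG f σ))
    (h : ptS f σ x ≫ φ (Over.mk f) (PicF.cl LΔ) = ptS f σ y ≫ φ (Over.mk f) (PicF.cl LΔ)) : x = y := by
  obtain ⟨p, hp, _, _, _, _, _, hd⟩ := curve_facts f σ hdim
  obtain ⟨J, ξ, hJp, -, -, hξ, huniv⟩ := exists_jacobian_field (fG f σ) hd p hp
  haveI := hJp
  haveI : Mono (aj (fG f σ) hd p hp ξ hξ huniv) := mono_aj (fG f σ) hd p hp ξ hξ huniv (by
    rw [gen_eq f σ (IsLocalRing.closedPoint Ω : Spec (CommRingCat.of Ω))]; exact hg _)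
  have hi : ∀ z : T ⟶ Over.mk (fG f σ), PicF.IsInvertibleCl (PicF.pullCl (PicF.XTmap f (ptS f σ z)) (PicF.cl LΔ)) :=
    fun z => FppfPic.isInvertibleCl_pull _ ⟨LΔ, rfl, hLΔ⟩
  rw [← hP.natural _ _ _ _ ⟨LΔ, rfl, hLΔ⟩, ← hP.natural _ _ _ _ ⟨LΔ, rfl, hLΔ⟩] at h
  obtain ⟨R, hR, he⟩ := hP.locallyInjective _ _ _ (hi x) (hi y) h
  obtain ⟨ι, U, u, hu, hfl, -, hsur⟩ := FppfPic.exists_sigma_cover hR
  haveI := hfl; haveI := hsur
  haveI := Flat.epi_of_flat_of_surjective (Sigma.desc u)
  refine Over.OverMorphism.ext ((cancel_epi (Sigma.desc u)).1 (Sigma.hom_ext _ _ fun i => ?_))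
  rw [← Category.assoc, ← Category.assoc, Sigma.ι_desc]
  let TU : Over (Spec (CommRingCat.of Ω)) := Over.mk (u i ≫ T.hom)
  let g : TU ⟶ T := Over.homMk (u i)
  let w : ovG σ TU ⟶ AbDual.ovr (ovG σ T) (u i) := Over.homMk (𝟙 (U i)) (by
    show 𝟙 _ ≫ u i ≫ T.hom ≫ σ = (u i ≫ T.hom) ≫ σ
    rw [Category.id_comp, Category.assoc])
  have hw : w ≫ AbDual.ovrHom (ovG σ T) (u i) = ovGmap σ g := Over.OverMorphism.ext (Category.id_comp _)
  have hpt : ∀ z : T ⟶ Over.mk (fG f σ), ovGmap σ g ≫ ptS f σ z = ptS f σ (g ≫ z) := fun z =>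
    Over.OverMorphism.ext (Category.assoc _ _ _).symm
  have e := congrArg (PicF.pullCl (PicF.XTmap f w)) (he (u i) (hu i))
  simp only [FppfPic.pullCl_XTmap_comp] at e
  rw [reassoc_of% hw, reassoc_of% hw, hpt, hpt] at e
  have e2 := congrArg (clG' f σ) e
  rw [clG'_diag f hdim LΔ hLΔ hΔ σ (g ≫ x), clG'_diag f hdim LΔ hLΔ hΔ σ (g ≫ y)] at e2
  have e3 : (g ≫ x) ≫ aj (fG f σ) hd p hp ξ hξ huniv = (g ≫ y) ≫ aj (fG f σ) hd p hp ξ hξ huniv := by
    refine eq_of_rigPull (fG f σ) p hp ξ hξ huniv ?_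
    rw [rigPull_aj, rigPull_aj]
    exact rigify_congr _ p hp _ _ (by rw [divCl, divCl, e2])
  exact congr($((cancel_mono _).1 e3).left)

include hdim hΔ hLΔ hP in
/-- the Abel map is a closed immersion -/
theorem isClosedImmersion_abel [IsSeparated P.hom]
    (hg : ∀ s : S, 1 ≤ CohIII.fiberRank f (Coh.structureModule C) 1 s) :
    IsClosedImmersion (φ (Over.mk f) (PicF.cl LΔ)).left := by
  let a := φ (Over.mk f) (PicF.cl LΔ)
  have haw : a.left ≫ P.hom = f := Over.w a
  haveI : IsProper (a.left ≫ P.hom) := by rw [haw]; infer_instance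
  haveI : IsProper a.left := IsProper.of_comp a.left P.hom
  have hfib : ∀ q : P.left, Mono (a.left.fiberToSpecResidueField q) := fun q => by
    refine ⟨fun {Z} b₁ b₂ hb => ?_⟩
    let Ω₀ := AlgebraicClosure (P.left.residueField q)
    let τ : Spec (CommRingCat.of Ω₀) ⟶ Spec (P.left.residueField q) :=
      Spec.map (CommRingCat.ofHom (algebraMap (P.left.residueField q) Ω₀))
    haveI : Surjective τ := GrpSchLib.surjective_spec_map_field (algebraMap (P.left.residueField q) Ω₀)
    haveI : Flat τ := inferInstance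
    let t := b₁ ≫ a.left.fiberToSpecResidueField q
    haveI : Surjective (pullback.fst t τ) := inferInstance
    haveI := Flat.epi_of_flat_of_surjective (pullback.fst t τ)
    rw [← cancel_epi (pullback.fst t τ)]
    let σ₀ := τ ≫ P.left.fromSpecResidueField q ≫ P.hom
    let T : Over (Spec (CommRingCat.of Ω₀)) := Over.mk (pullback.snd t τ)
    let p₁ := pullback.fst t τ ≫ b₁ ≫ a.left.fiberι q
    let p₂ := pullback.fst t τ ≫ b₂ ≫ a.left.fiberι q
    have ha₁ : p₁ ≫ a.left = pullback.snd t τ ≫ τ ≫ P.left.fromSpecResidueField q := by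
      simp only [p₁, Category.assoc, Scheme.Hom.fiberι, pullback.condition]
      rw [← reassoc_of% (pullback.condition (f := t) (g := τ))]
      rfl
    have ha₂ : p₂ ≫ a.left = pullback.snd t τ ≫ τ ≫ P.left.fromSpecResidueField q := by
      simp only [p₂, Category.assoc, Scheme.Hom.fiberι, pullback.condition]
      rw [← reassoc_of% (pullback.condition (f := t) (g := τ))]
      simp only [t, Category.assoc]
      rw [reassoc_of% hb]
      rfl
    have hf : ∀ {p : pullback t τ ⟶ C}, p ≫ a.left = pullback.snd t τ ≫ τ ≫ P.left.fromSpecResidueField q →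
        p ≫ f = pullback.snd t τ ≫ σ₀ := fun {p} hp => by
      rw [← haw, ← Category.assoc, hp, Category.assoc, Category.assoc]
    let x : T ⟶ Over.mk (fG f σ₀) := Over.homMk (pullback.lift p₁ (pullback.snd t τ) (hf ha₁)) (pullback.lift_snd _ _ _)
    let y : T ⟶ Over.mk (fG f σ₀) := Over.homMk (pullback.lift p₂ (pullback.snd t τ) (hf ha₂)) (pullback.lift_snd _ _ _)
    have hxy := inj_geom f hdim LΔ hLΔ hΔ σ₀ hP hg x y (Over.OverMorphism.ext (by
      show (pullback.lift p₁ _ _ ≫ pullback.fst f σ₀) ≫ a.left = (pullback.lift p₂ _ _ ≫ pullback.fst f σ₀) ≫ a.left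
      rw [pullback.lift_fst, pullback.lift_fst, ha₁, ha₂]))
    have hp12 : p₁ = p₂ := by
      have := congr($(hxy).left ≫ pullback.fst f σ₀)
      simpa only [x, y, Over.homMk_left, pullback.lift_fst] using this
    refine pullback.hom_ext ?_ ?_
    · simpa only [p₁, p₂, Category.assoc, Scheme.Hom.fiberι] using hp12
    · simp only [Category.assoc]
      exact congrArg (pullback.fst t τ ≫ ·) hb
  haveI : FormallyUnramified a.left := GrpSchLib.formallyUnramified_of_fibres a.left fun q => by
    haveI := hfib q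
    infer_instance
  haveI := FlatMisc.mono_of_mono_fibres a.left hfib
  exact (IsClosedImmersion.iff_isProper_and_mono a.left).2 ⟨inferInstance, inferInstance⟩

end Groth.Agent.PicRelC

end
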