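import Groth.Agent.PicRelC.Geom
import Groth.Agent.PicCurve.Good
import Groth.Agent.PBC.Betti

/-!
# The degree of the points of the relative Picard scheme of a relative curve
-/

noncomputable section

set_option autoImplicit false
set_option linter.style.haveILetI false
set_option linter.unusedSectionVars false
set_option backward.isDefEq.respectTransparency false
set_option backward.isDefEq.respectTransparency.types false
set_option maxHeartbeats 1000000
set_option synthInstance.maxHeartbeats 400000
attribute [-instance] CategoryTheory.catToReflQuiver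

universe u

open CategoryTheory CategoryTheory.Limits AlgebraicGeometry TopologicalSpace Opposite
open Groth.Agent.H23.PicMul

namespace Groth.Agent.PicRelC

open PicCurve

/-- the Euler characteristic on the fibres of a curve is locally constant over any base -/
theorem isLocallyConstant_chiAt {P T : Scheme.{u}} (π : P ⟶ T) [IsProper π] [Flat π] [LocallyOfFinitePresentation π]
    {L : P.Modules} (hL : PicF.IsInvertible L) (hd : ∀ t, topologicalKrullDim (π.fiber t) ≤ 1) :
    IsLocallyConstant (chiAt π L) := by
  rw [show chiAt π L = fun s => PerfAux.eulerChar π L s from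
    funext fun t => (fibreEuler_eq_chiAt π (isQCoh_inv hL) t (hd t)).symm]
  exact PBC.isLocallyConstant_eulerChar π L (isFP_inv hL) (H23.Seesaw.isFlatOver_of_isInvertible π hL)

variable {C S : Scheme.{u}} (f : C ⟶ S)

/-- the Euler characteristic of a class on a fibre -/
def chiC {T : Over S} (a : PicF.Cl (PicF.XT f T)) (t : T.left) : ℤ :=
  Quot.lift (fun L => chiAt (PicF.XTproj f T) L t) (fun _ _ ⟨e⟩ => chiAt_congr _ e t) a

/-- the degree of a class on a fibre -/
def degC {T : Over S} (a : PicF.Cl (PicF.XT f T)) (t : T.left) : ℤ := chiC f a t - chiC f 1 t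

theorem degC_cl {T : Over S} (L : (PicF.XT f T).Modules) (t : T.left) :
    degC f (PicF.cl L) t =
      chiAt (PicF.XTproj f T) L t - chiAt (PicF.XTproj f T) (Coh.structureModule _) t := rfl

variable [IsProper f]

theorem deg0At_iff_degC {T : Over S} (a : PicF.Cl (PicF.XT f T)) (t : T.left) :
    Deg0At f a t ↔ degC f a t = 0 := by
  obtain ⟨L, rfl⟩ := Quot.exists_rep a
  show Deg0At f (PicF.cl L) t ↔ degC f (PicF.cl L) t = 0
  rw [deg0At_cl, degC_cl, sub_eq_zero]

theorem degC_pull {T T' : Over S} (g : T' ⟶ T) {a : PicF.Cl (PicF.XT f T)} (ha : PicF.IsInvertibleCl a)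
    (t : T'.left) : degC f (PicF.pullCl (PicF.XTmap f g) a) t = degC f a (g.left t) := by
  haveI : IsProper (PicF.XTproj f T) := inferInstanceAs (IsProper (pullback.snd f T.hom))
  obtain ⟨L, rfl, hL⟩ := ha
  rw [show PicF.pullCl (PicF.XTmap f g) (PicF.cl L) = PicF.cl ((Scheme.Modules.pullback (PicF.XTmap f g)).obj L) from rfl,
    degC_cl, degC_cl, chiAt_bc (PicF.XTproj f T) (FppfPic.isPullback_XTmap f g) (isQCoh_inv hL), chiAt_unit_pull f g]

variable {P : Over S} {φ : ∀ T : Over S, PicF.Cl (PicF.XT f T) → (T ⟶ P)}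
  (hP : AbDual.IsRelPicK Scheme.fppfPrecoverage f P φ)

include hP in
/-- classes with the same point have the same degrees -/
theorem degC_eq_of_φ_eq {T : Over S} {c d : PicF.Cl (PicF.XT f T)} (hc : PicF.IsInvertibleCl c)
    (hd : PicF.IsInvertibleCl d) (h : φ T c = φ T d) (t : T.left) : degC f c t = degC f d t := by
  obtain ⟨R, hR, he⟩ := hP.locallyInjective _ _ _ hc hd h
  obtain ⟨ι, U, u, hu, -, -, hsur⟩ := FppfPic.exists_sigma_cover hR
  obtain ⟨x, hx⟩ := hsur.surj t
  obtain ⟨i, y, rfl⟩ := (sigmaOpenCover U).exists_eq x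
  have hy : u i y = t := by
    rw [← hx, ← Scheme.Hom.comp_apply]
    exact congr($((Sigma.ι_desc u i).symm) y)
  have e := congrArg (fun a => degC f a y) (he (u i) (hu i))
  rw [degC_pull f _ hc, degC_pull f _ hd, show (AbDual.ovrHom T (u i)).left y = t from hy] at e
  exact e

include hP in
/-- classes whose points meet have the same degree there -/
theorem degC_eq_of_point {T T' : Over S} {c : PicF.Cl (PicF.XT f T)} {d : PicF.Cl (PicF.XT f T')}
    (hc : PicF.IsInvertibleCl c) (hd : PicF.IsInvertibleCl d) {t : T.left} {t' : T'.left}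
    (h : (φ T c).left t = (φ T' d).left t') : degC f c t = degC f d t' := by
  obtain ⟨z, hz, hz'⟩ := Scheme.Pullback.exists_preimage_pullback (f := (φ T c).left) (g := (φ T' d).left) t t' h
  let R : Over S := Over.mk (pullback.fst (φ T c).left (φ T' d).left ≫ T.hom)
  let p : R ⟶ T := Over.homMk (pullback.fst _ _)
  let q : R ⟶ T' := Over.homMk (pullback.snd _ _) (by
    show pullback.snd _ _ ≫ T'.hom = pullback.fst _ _ ≫ T.hom
    rw [← Over.w (φ T c), ← Over.w (φ T' d), ← Category.assoc, ← pullback.condition, Category.assoc])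
  have e := degC_eq_of_φ_eq f hP (FppfPic.isInvertibleCl_pull (PicF.XTmap f p) hc)
    (FppfPic.isInvertibleCl_pull (PicF.XTmap f q) hd)
    (by rw [hP.natural _ _ p _ hc, hP.natural _ _ q _ hd]; exact Over.OverMorphism.ext pullback.condition) z
  rw [degC_pull f p hc, degC_pull f q hd, show p.left z = t from hz, show q.left z = t' from hz'] at e
  exact e

variable [Flat f] [LocallyOfFinitePresentation f]

theorem isLocallyConstant_degC (hdim : ∀ s : S, topologicalKrullDim (f.fiber s) ≤ 1) {T : Over S}
    {a : PicF.Cl (PicF.XT f T)} (ha : PicF.IsInvertibleCl a) : IsLocallyConstant (degC f a) := by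
  haveI : IsProper (PicF.XTproj f T) := inferInstanceAs (IsProper (pullback.snd f T.hom))
  haveI : Flat (PicF.XTproj f T) := inferInstanceAs (Flat (pullback.snd f T.hom))
  haveI : LocallyOfFinitePresentation (PicF.XTproj f T) :=
    inferInstanceAs (LocallyOfFinitePresentation (pullback.snd f T.hom))
  obtain ⟨L, rfl, hL⟩ := ha
  rw [show degC f (PicF.cl L) = fun t => chiAt (PicF.XTproj f T) L t - chiAt (PicF.XTproj f T) (Coh.structureModule _) t
    from funext (degC_cl f L)]
  exact (isLocallyConstant_chiAt _ hL (dim_fiber_le f hdim T)).comp₂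
    (isLocallyConstant_chiAt _ (PicLoc.isInvertible_structureModule _) (dim_fiber_le f hdim T)) (fun x y => x - y)

include hP in
/-- the degree on the relative Picard scheme -/
theorem exists_degree (hdim : ∀ s : S, topologicalKrullDim (f.fiber s) ≤ 1) :
    ∃ d : ↥P.left → ℤ, IsLocallyConstant d ∧
      ∀ (T : Over S) (c : PicF.Cl (PicF.XT f T)), PicF.IsInvertibleCl c → ∀ t : T.left,
        d ((φ T c).left t) = degC f c t := by
  obtain ⟨U, u, hfl, hlfp, hsur, c₀, hc₀, hφ⟩ := FppfPic.exists_cl_cover f hP P (𝟙 P)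
  haveI := hfl; haveI := hlfp; haveI := hsur
  have hl : (φ (AbDual.ovr P u) c₀).left = u := by rw [hφ]; exact Category.comp_id _
  choose s hs using fun p => hsur.surj p
  have key : ∀ (T : Over S) (c : PicF.Cl (PicF.XT f T)), PicF.IsInvertibleCl c → ∀ t : T.left,
      degC f c₀ (s ((φ T c).left t)) = degC f c t := fun T c hc t =>
    degC_eq_of_point f hP hc₀ hc (by rw [hl]; exact hs _)
  refine ⟨fun p => degC f c₀ (s p), ?_, key⟩
  have hq : Topology.IsQuotientMap u := u.isOpenMap.isQuotientMap u.continuous u.surjective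
  intro A
  rw [← hq.isOpen_preimage]
  have hpre : u ⁻¹' ((fun p => degC f c₀ (s p)) ⁻¹' A) = degC f c₀ ⁻¹' A := by
    ext y
    have := key (AbDual.ovr P u) c₀ hc₀ y
    rw [hl] at this
    show degC f c₀ (s (u y)) ∈ A ↔ _
    exact iff_of_eq (congrArg (· ∈ A) this)
  rw [hpre]
  exact isLocallyConstant_degC f hdim hc₀ A

end Groth.Agent.PicRelC

end
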