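import Groth.Agent.PicRelC.Zero
import Groth.Agent.JacTangent.Main

/-!
# The geometric fibres of the degree zero Picard scheme of a smooth proper relative curve
-/

noncomputable section

set_option autoImplicit false
set_option linter.style.haveILetI false
set_option linter.unusedSectionVars false
set_option backward.isDefEq.respectTransparency false
set_option backward.isDefEq.respectTransparency.types false
set_option maxHeartbeats 1000000
set_option synthInstance.maxHeartbeats 400000
attribute [-instance] CategoryTheory.catToReflQuiver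

universe u

open CategoryTheory CategoryTheory.Limits AlgebraicGeometry TopologicalSpace Opposite
open Groth.Agent.H23.PicMul

namespace Groth.Agent.PicRelC

open PicCurve

variable {C S : Scheme.{u}} (f : C ⟶ S) [IsProper f] [Smooth f] [GeometricallyConnected f]
  (hdim : ∀ s : S, topologicalKrullDim ↥(f.fiber s) = 1)
  {P₀ : Over S} {φ₀ : ∀ T : Over S, PicF.Cl (PicF.XT f T) → (T ⟶ P₀)}
  (hP₀ : AbDual.IsRelPicZeroK Scheme.fppfPrecoverage f P₀ φ₀)
  {Ω : Type u} [Field Ω] [IsAlgClosed Ω] (σ : Spec (CommRingCat.of Ω) ⟶ S)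

include hdim hP₀ in
/-- a geometric fibre of the degree zero Picard scheme is proper, smooth, irreducible of dimension the genus -/
theorem geomFibre_facts :
    IsProper (pullback.snd P₀.hom σ) ∧ Smooth (pullback.snd P₀.hom σ) ∧
      GeometricallyIrreducible (pullback.snd P₀.hom σ) ∧
      topologicalKrullDim ↥(pullback P₀.hom σ) =
        (CohIII.fiberRank f (Coh.structureModule C) 1 (σ (IsLocalRing.closedPoint Ω)) : WithBot ℕ∞) := by
  obtain ⟨p, hp, _, _, _, _, _, hd⟩ := curve_facts f σ hdim
  obtain ⟨J, ξ, hJp, hJs, hJi, hξ, huniv⟩ := exists_jacobian_field (fG f σ) hd p hp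
  have hpb := isPullback_toP₀ f hdim hP₀ σ p hp ξ hξ huniv
  let e := hpb.isoPullback
  have he : e.inv ≫ J.hom = pullback.snd P₀.hom σ := hpb.isoPullback_inv_snd
  refine ⟨?_, ?_, ?_, ?_⟩
  · rw [← he]; haveI := hJp; infer_instance
  · rw [← he]; haveI := hJs; infer_instance
  · rw [← he]
    exact (MorphismProperty.cancel_left_of_respectsIso @GeometricallyIrreducible _ _).2 hJi
  · rw [(Scheme.homeoOfIso e.symm).isHomeomorph.topologicalKrullDim_eq]
    haveI := hJs
    letI : (pullback f σ).Over (Spec (CommRingCat.of Ω)) := ⟨fG f σ⟩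
    show topologicalKrullDim ↥J.left = _
    exact (JacTangent.topologicalKrullDim_eq ξ hξ huniv rfl).trans
      (congrArg (fun n : ℕ => (n : WithBot ℕ∞)) (gen_eq f σ (IsLocalRing.closedPoint Ω : Spec (CommRingCat.of Ω))))

include hdim hP₀ in
/-- the fibres of the degree zero Picard scheme have dimension the genus -/
theorem fibre_dim [LocallyOfFinitePresentation P₀.hom] (s : S) :
    topologicalKrullDim ↥(P₀.hom.fiber s) = (CohIII.fiberRank f (Coh.structureModule C) 1 s : WithBot ℕ∞) := by
  let Ω₀ := AlgebraicClosure (S.residueField s)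
  let τ : Spec (CommRingCat.of Ω₀) ⟶ S :=
    Spec.map (CommRingCat.ofHom (algebraMap (S.residueField s) Ω₀)) ≫ S.fromSpecResidueField s
  have hτ : τ (IsLocalRing.closedPoint Ω₀) = s :=
    (Scheme.Hom.comp_apply _ _ _).trans (Scheme.fromSpecResidueField_apply _ _)
  have h := (geomFibre_facts f hdim hP₀ τ).2.2.2
  have key : ∀ x : S, x = s → topologicalKrullDim ↥(P₀.hom.fiber x) = (CohIII.fiberRank f (Coh.structureModule C) 1 x : WithBot ℕ∞) →
      topologicalKrullDim ↥(P₀.hom.fiber s) = (CohIII.fiberRank f (Coh.structureModule C) 1 s : WithBot ℕ∞) := by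
    rintro x rfl hx
    exact hx
  exact key _ hτ ((CurveFibDeg.topologicalKrullDim_fieldFibre P₀.hom τ).symm.trans h)

end Groth.Agent.PicRelC

end
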