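import Groth.Agent.PicRelC.Abel
import Groth.Agent.PicRelC.Fibre
import Mathlib.AlgebraicGeometry.Morphisms.FlatDescent

/-!
# An elliptic curve is its degree zero Picard scheme
-/

noncomputable section

set_option autoImplicit false
set_option linter.style.haveILetI false
set_option linter.unusedSectionVars false
set_option backward.isDefEq.respectTransparency false
set_option backward.isDefEq.respectTransparency.types false
set_option maxHeartbeats 1000000
set_option synthInstance.maxHeartbeats 400000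
attribute [-instance] CategoryTheory.catToReflQuiver

universe u

open CategoryTheory CategoryTheory.Limits AlgebraicGeometry TopologicalSpace Opposite
  MonoidalCategory CartesianMonoidalCategory
open scoped MonObj
open Groth.Agent.H23.PicMul

namespace Groth.Agent.PicRelC

open PicCurve PicCurve.Alb HilbDLib

/-- an isomorphism on the geometric fibre is an isomorphism on the fibre -/
theorem isIso_fibre_of_geometric {X Y S : Scheme.{u}} (a : X ⟶ Y) (g : Y ⟶ S) (s : S) {Ω : Type u} [Field Ω]
    (ψ : S.residueField s ⟶ CommRingCat.of Ω)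
    (h : IsIso (pullback.snd a (pullback.fst g (Spec.map ψ ≫ S.fromSpecResidueField s)))) :
    IsIso (pullback.snd a (g.fiberι s)) := by
  let τ := Spec.map ψ ≫ S.fromSpecResidueField s
  let j : pullback g τ ⟶ g.fiber s := pullback.lift (pullback.fst g τ) (pullback.snd g τ ≫ Spec.map ψ)
    (by rw [Category.assoc, pullback.condition])
  have hj : j ≫ g.fiberι s = pullback.fst g τ := pullback.lift_fst _ _ _
  have hpb : IsPullback j (pullback.snd g τ) (g.fiberToSpecResidueField s) (Spec.map ψ) := by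
    refine IsPullback.of_right ?_ (pullback.lift_snd _ _ _) (IsPullback.of_hasPullback g (S.fromSpecResidueField s))
    rw [show j ≫ pullback.fst g (S.fromSpecResidueField s) = pullback.fst g τ from hj]
    exact IsPullback.of_hasPullback g τ
  haveI : Surjective (Spec.map ψ) := GrpSchLib.surjective_spec_map_field ψ.hom
  haveI : Flat (Spec.map ψ) := inferInstance
  have hj1 : Surjective j := MorphismProperty.of_isPullback (P := @Surjective) hpb.flip inferInstance
  have hj2 : Flat j := MorphismProperty.of_isPullback (P := @Flat) hpb.flip inferInstance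
  have hj3 : QuasiCompact j := MorphismProperty.of_isPullback (P := @QuasiCompact) hpb.flip inferInstance
  let k : pullback a (pullback.fst g τ) ⟶ pullback a (g.fiberι s) :=
    pullback.lift (pullback.fst _ _) (pullback.snd _ _ ≫ j) (by rw [Category.assoc, hj, pullback.condition])
  have hk : IsPullback k (pullback.snd a (pullback.fst g τ)) (pullback.snd a (g.fiberι s)) j := by
    refine IsPullback.of_right ?_ (pullback.lift_snd _ _ _) (IsPullback.of_hasPullback a (g.fiberι s))
    rw [hj, show k ≫ pullback.fst a (g.fiberι s) = pullback.fst a (pullback.fst g τ) from pullback.lift_fst _ _ _]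
    exact IsPullback.of_hasPullback a (pullback.fst g τ)
  have := MorphismProperty.of_isPullback_of_descendsAlong (P := MorphismProperty.isomorphisms Scheme.{u})
    (Q := @Surjective ⊓ @Flat ⊓ @QuasiCompact) hk.flip ⟨⟨hj1, hj2⟩, hj3⟩ h
  exact this

section Surj

variable {k : Type u} [Field k] [IsAlgClosed k] {X : Scheme.{u}} (f : X ⟶ Spec (CommRingCat.of k))
  [IsProper f] [Smooth f] [SmoothOfRelativeDimension 1 f] [GeometricallyIntegral f] [IsIntegral X]
  (hdim : topologicalKrullDim X = 1) (σ : Spec (CommRingCat.of k) ⟶ X) (hσ : σ ≫ f = 𝟙 _)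
  {J : Over (Spec (CommRingCat.of k))} [IsProper J.hom] [Smooth J.hom] (ξ : PicF.Rig f σ hσ J)
  (hξ : FGA.HasFibreDegreeZeroCl f J ξ.1)
  (huniv : ∀ (T : Over (Spec (CommRingCat.of k))) (c : PicF.Rig f σ hσ T), FGA.HasFibreDegreeZeroCl f T c.1 →
    ∃! g : T ⟶ J, PicF.pullCl (PicF.XTmap f g) ξ.1 = c.1)

include hdim hξ huniv in
/-- in genus one the Abel map is an isomorphism -/
theorem isIso_aj (hg : gen f = 1) : IsIso (aj f hdim σ hσ ξ hξ huniv).left := by
  letI := jacGrpObj f hdim σ hσ ξ hξ huniv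
  haveI := mono_aj f hdim σ hσ ξ hξ huniv (by omega)
  let α := aj f hdim σ hσ ξ hξ huniv
  haveI : IsProper (α.left ≫ J.hom) := by rw [Over.w α]; exact ‹IsProper f›
  haveI : IsProper α.left := IsProper.of_comp α.left J.hom
  haveI : Mono α.left := ⟨fun {Z} a b h => by
    let T : Over (Spec (CommRingCat.of k)) := Over.mk (a ≫ f)
    let a' : T ⟶ Over.mk f := Over.homMk a rfl
    let b' : T ⟶ Over.mk f := Over.homMk b (by
      show b ≫ f = a ≫ f
      rw [← show α.left ≫ J.hom = f from Over.w α, reassoc_of% h])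
    exact congr($((cancel_mono α).1 (show a' ≫ α = b' ≫ α from Over.OverMorphism.ext h)).left)⟩
  haveI : IsClosedImmersion α.left := (IsClosedImmersion.iff_isProper_and_mono α.left).2 ⟨inferInstance, inferInstance⟩
  haveI := GrpSchLib.isReduced_of_smooth_field J.hom
  haveI : JacobsonSpace J.left := LocallyOfFiniteType.jacobsonSpace J.hom
  obtain ⟨D⟩ := nonempty_tower (f := f) hdim σ hσ
  have hpts : ∀ w : closedPoints J.left, w.1 ∈ Set.range α.left := fun w => by
    let s := (pointEquivClosedPoint J.hom).symm w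
    let c : Over.mk (𝟙 (Spec (CommRingCat.of k))) ⟶ J := Over.homMk s.1 s.2
    obtain ⟨E, hE⟩ : ∃ E : Over.mk (𝟙 _) ⟶ D.H 1, E ≫ toJ f hdim σ hσ ξ hξ huniv D 1 = c :=
      hg ▸ exists_div f (𝟙 _) hdim σ hσ ξ hξ huniv D c
    obtain ⟨E₀, y, hy⟩ := exists_pair f (𝟙 _) D 0 E
    haveI := jac_isCommMonObj f hdim σ hσ ξ hξ huniv
    rw [← hy, Category.assoc, toJ, pair_m_sum D α hdim 0 E₀ y, sum_zero, MonObj.comp_one, _root_.one_mul] at hE
    refine ⟨y.left (IsLocalRing.closedPoint k : Spec (CommRingCat.of k)), ?_⟩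
    have h1 := congr($(hE).left (IsLocalRing.closedPoint k : Spec (CommRingCat.of k)))
    simp only [Over.comp_left, Scheme.Hom.comp_apply] at h1
    rw [h1]
    exact congrArg Subtype.val ((pointEquivClosedPoint J.hom).apply_symm_apply w)
  haveI : Surjective α.left := ⟨fun z => by
    by_contra hz
    obtain ⟨w, hw, hwc⟩ := nonempty_inter_closedPoints (X := J.left) (Z := (Set.range α.left)ᶜ) ⟨z, hz⟩
      α.left.isClosedEmbedding.isClosed_range.isOpen_compl.isLocallyClosed
    exact hw (hpts ⟨w, hwc⟩)⟩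
  exact isIso_of_isClosedImmersion_of_surjective α.left

end Surj

variable {E S : Scheme.{u}} (f : E ⟶ S) [IsProper f] [Smooth f] [GeometricallyConnected f]
  (hdim : ∀ s : S, topologicalKrullDim ↥(f.fiber s) = 1) (e : S ⟶ E) (he : e ≫ f = 𝟙 S)
  (LΔ : (PicF.XT f (Over.mk f)).Modules) (hLΔ : PicF.IsInvertible LΔ)
  (hΔ : ClSub.IsInverseOf LΔ (ClSub.idealMod (pullback.diagonal f).ker))
  {P₀ : Over S} {φ₀ : ∀ T : Over S, PicF.Cl (PicF.XT f T) → (T ⟶ P₀)}
  (hP₀ : AbDual.IsRelPicZeroK Scheme.fppfPrecoverage f P₀ φ₀)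

/-- the class of a point minus the origin -/
def ellCl : PicF.Cl (PicF.XT f (Over.mk f)) :=
  PicF.cl LΔ * PicF.pullCl (show PicF.XT f (Over.mk f) ⟶ E from pullback.fst f f) (PicF.cl (ClSub.idealMod e.ker))

/-- the origin on the curve over a point -/
abbrev baseG {Ω : Type u} [Field Ω] (σ : Spec (CommRingCat.of Ω) ⟶ S) : Spec (CommRingCat.of Ω) ⟶ pullback f σ :=
  pullback.lift (σ ≫ e) (𝟙 _) (by rw [Category.assoc, he, Category.comp_id, Category.id_comp])

include hdim he in
theorem effCartier_e : BlowUp.IsEffCartierIdeal e.ker := by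
  haveI := smoothOfRelativeDimension_one f hdim
  haveI : IsClosedImmersion (e ≫ f) := by rw [he]; infer_instance
  haveI : IsClosedImmersion e := IsClosedImmersion.of_comp e f
  refine (RelCurveDiv.isEffCartier_of_finLocFree f e.ker ((finLocFreeOfDeg_ker (d := 1) e f).2 ?_).1).1
  rw [he]
  exact ⟨⟨inferInstance, inferInstance, inferInstance⟩, fun y =>
    congrFun (Scheme.Hom.finrank_eq_one_of_isIso (𝟙 _)) y⟩

include hdim he hLΔ in
theorem isInvertibleCl_ellCl : PicF.IsInvertibleCl (ellCl f e LΔ) :=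
  isInvertibleCl_mul ⟨LΔ, rfl, hLΔ⟩
    (FppfPic.isInvertibleCl_pull _ ⟨_, rfl, Big.isInvertible_ideal (effCartier_e f hdim e he)⟩)

include hdim he hΔ hLΔ in
/-- the class at a point over a geometric point -/
theorem clG'_ellCl {Ω : Type u} [Field Ω] [IsAlgClosed Ω] (σ : Spec (CommRingCat.of Ω) ⟶ S)
    [IsProper (fG f σ)] [Smooth (fG f σ)] [SmoothOfRelativeDimension 1 (fG f σ)] [GeometricallyIntegral (fG f σ)]
    (hp : baseG f e he σ ≫ fG f σ = 𝟙 _) {T : Over (Spec (CommRingCat.of Ω))} (x : T ⟶ Over.mk (fG f σ)) :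
    clG' f σ (PicF.pullCl (PicF.XTmap f (ptS f σ x)) (ellCl f e LΔ)) =
      divCl (fG f σ) (baseG f e he σ) 1 (grObj (fG f σ) x) := by
  haveI : IsClosedImmersion (e ≫ f) := by rw [he]; infer_instance
  haveI : IsClosedImmersion e := IsClosedImmersion.of_comp e f
  rw [ellCl, pullCl_mul, clG'_mul, clG'_diag f hdim LΔ hLΔ hΔ, divCl, pow_one]
  congr 1
  let p := baseG f e he σ
  have hpb : IsPullback p σ (pullback.fst f σ) e := by
    refine IsPullback.of_right ?_ (pullback.lift_fst _ _ _) (IsPullback.of_hasPullback f σ).flip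
    rw [hp, he]
    exact IsPullback.of_horiz_isIso ⟨by simp⟩
  have hker : e.ker.comap (pullback.fst f σ) = p.ker := (FComplLib.ker_of_isPullback hpb).symm
  have hδ : δ p = PicF.pullCl (pullback.fst f σ) (PicF.cl (ClSub.idealMod e.ker)) := by
    show _ = PicF.cl _
    rw [Big.cl_idealMod_comap (pullback.fst f σ) e.ker (effCartier_e f hdim e he)
      (hker ▸ effCartier_ker (fG f σ) p hp), hker]
    rfl
  show _ = tw (fG f σ) (δ p) T
  rw [hδ, clG', PicClLib.pullCl_comp, PicClLib.pullCl_comp, tw, PicClLib.pullCl_comp]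
  congr 1
  have h1 := eT_fst f σ T
  have h2 : PicF.XTmap f (ptS f σ x) ≫ pullback.fst f f = pullback.fst f (ovG σ T).hom := by
    simp [PicF.XTmap, pullback.map]
  rw [Category.assoc, h2, show pullback.fst f (ovG σ T).hom = pullback.fst f (T.hom ≫ σ) from rfl, ← h1,
    Iso.inv_hom_id_assoc]

include hdim he hΔ hLΔ in
theorem isPicZeroCl_ellCl : AbDual.IsPicZeroCl f (Over.mk f) (ellCl f e LΔ) := by
  refine (isPicZeroCl_iff f hdim _).2 ⟨isInvertibleCl_ellCl f hdim e he LΔ hLΔ, fun x => ?_⟩
  let Ω := AlgebraicClosure (E.residueField x)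
  let gpt : Spec (CommRingCat.of Ω) ⟶ E :=
    Spec.map (CommRingCat.ofHom (algebraMap (E.residueField x) Ω)) ≫ E.fromSpecResidueField x
  let σ := gpt ≫ f
  have hgpt : gpt (IsLocalRing.closedPoint Ω) = x :=
    (Scheme.Hom.comp_apply _ _ _).trans (Scheme.fromSpecResidueField_apply _ _)
  obtain ⟨-, -, _, _, _, _, _, hd⟩ := curve_facts f σ hdim
  have hp : baseG f e he σ ≫ fG f σ = 𝟙 _ := pullback.lift_snd _ _ _
  let T : Over (Spec (CommRingCat.of Ω)) := Over.mk (𝟙 _)
  let y : T ⟶ Over.mk (fG f σ) := Over.homMk (pullback.lift gpt (𝟙 _) (by rw [Category.id_comp]))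
    (pullback.lift_snd _ _ _)
  have h := clG'_ellCl f hdim e he LΔ hLΔ hΔ σ hp y
  have h2 := (deg0At_iff (fG f σ) _ (IsLocalRing.closedPoint Ω : Spec (CommRingCat.of Ω))).1
    ((hasFibreDegreeZeroCl_iff _ _).1 (deg0_divRig (fG f σ) hd (baseG f e he σ) hp 1 (grObj (fG f σ) y)) _)
  rw [divRig, degCl_rigify (fG f σ) hd, ← h, ← deg0At_iff,
    ← deg0At_clG f σ (isInvertibleCl_clG' f σ (FppfPic.isInvertibleCl_pull _ (isInvertibleCl_ellCl f hdim e he LΔ hLΔ))),
    clG_clG', deg0At_iff_degC, degC_pull f _ (isInvertibleCl_ellCl f hdim e he LΔ hLΔ)] at h2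
  have h3 : (ptS f σ y).left (IsLocalRing.closedPoint Ω : Spec (CommRingCat.of Ω)) = x := by
    show (pullback.lift gpt (𝟙 _) _ ≫ pullback.fst f σ) _ = x
    rw [pullback.lift_fst]
    exact hgpt
  rw [h3] at h2
  exact h2

include hdim he hΔ hLΔ hP₀ in
/-- the elliptic curve is its degree zero Picard scheme -/
theorem isIso_ell (hg : ∀ s : S, CohIII.fiberRank f (Coh.structureModule E) 1 s = 1)
    [Flat P₀.hom] [LocallyOfFinitePresentation P₀.hom] : IsIso (φ₀ (Over.mk f) (ellCl f e LΔ)).left := by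
  let a := φ₀ (Over.mk f) (ellCl f e LΔ)
  have haw : a.left ≫ P₀.hom = f := Over.w a
  haveI : LocallyOfFinitePresentation (a.left ≫ P₀.hom) := by rw [haw]; infer_instance
  haveI : Flat (a.left ≫ P₀.hom) := by rw [haw]; infer_instance
  have hfib : ∀ s : S, IsIso (pullback.snd a.left (P₀.hom.fiberι s)) := fun s => by
    let Ω := AlgebraicClosure (S.residueField s)
    let ψ : S.residueField s ⟶ CommRingCat.of Ω := CommRingCat.ofHom (algebraMap (S.residueField s) Ω)
    let σ := Spec.map ψ ≫ S.fromSpecResidueField s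
    refine isIso_fibre_of_geometric a.left P₀.hom s ψ ?_
    obtain ⟨-, -, _, _, _, _, _, hd⟩ := curve_facts f σ hdim
    have hp : baseG f e he σ ≫ fG f σ = 𝟙 _ := pullback.lift_snd _ _ _
    obtain ⟨J, ξ, hJp, hJs, hJi, hξ, huniv⟩ := exists_jacobian_field (fG f σ) hd (baseG f e he σ) hp
    haveI := hJp; haveI := hJs
    have hgen : gen (fG f σ) = 1 := (gen_eq f σ (IsLocalRing.closedPoint Ω : Spec (CommRingCat.of Ω))).trans (hg _)
    haveI := isIso_aj (fG f σ) hd (baseG f e he σ) hp ξ hξ huniv hgen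
    let α := aj (fG f σ) hd (baseG f e he σ) hp ξ hξ huniv
    let Φ := toP₀ (φ₀ := φ₀) f σ (baseG f e he σ) hp ξ
    have hpb := isPullback_toP₀ f hdim hP₀ σ (baseG f e he σ) hp ξ hξ huniv
    let T : Over (Spec (CommRingCat.of Ω)) := Over.mk (fG f σ)
    have hxa : ptS f σ (𝟙 T) ≫ a = ovGmap σ α ≫ Φ := by
      have hz := isPicZeroCl_ellCl f hdim e he LΔ hLΔ hΔ
      have hzp := isPicZeroCl_pull f hdim (ptS f σ (𝟙 T)) hz
      rw [← hP₀.natural _ _ _ _ hz, ovGmap_toP₀ f hdim hP₀ σ (baseG f e he σ) hp ξ hξ]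
      have h := rigPull_aj (fG f σ) hd (baseG f e he σ) hp ξ hξ huniv (𝟙 T)
      rw [Category.id_comp] at h
      rw [show rigPull (fG f σ) (baseG f e he σ) hp α ξ = _ from h]
      let G := grObj (fG f σ) (𝟙 T)
      have hc := isInvertibleCl_divCl (fG f σ) (baseG f e he σ) hp 1 G
      have hr := (rig0Pull (fG f σ) (baseG f e he σ) hp α ⟨ξ, hξ⟩).2
      rw [show (rig0Pull (fG f σ) (baseG f e he σ) hp α ⟨ξ, hξ⟩).1 = _ from h] at hr
      have e1 : clG f σ (divRig (fG f σ) (baseG f e he σ) hp 1 G).1 =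
          PicF.pullCl (PicF.XTmap f (ptS f σ (𝟙 T))) (ellCl f e LΔ) * PicF.pullCl (PicF.XTproj f (ovG σ T))
            (invCl (FppfPic.isInvertibleCl_pull (PicF.secT (fG f σ) (baseG f e he σ) hp T) hc)) := by
        show clG f σ (divCl (fG f σ) (baseG f e he σ) 1 G * PicF.pullCl _ _) = _
        rw [clG_mul]
        refine congr (congrArg HMul.hMul ?_) ?_
        · rw [← clG'_ellCl f hdim e he LΔ hLΔ hΔ σ hp (𝟙 T), clG_clG']
        show PicF.pullCl _ (PicF.pullCl _ _) = _
        rw [PicClLib.pullCl_comp, eT_snd]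
      rw [e1]
      exact (φ₀_mul_base f hdim hP₀ hzp (isInvertibleCl_invCl _)
        (e1 ▸ isPicZeroCl_clG f hdim hP₀ σ (baseG f e he σ) hp hr)).symm
    have hx : pullback.fst f σ ≫ a.left = α.left ≫ Φ.left := by
      have := congr($(hxa).left)
      simp only [Over.comp_left, ptS, Over.homMk_left, Over.id_left] at this
      exact (congrArg (· ≫ a.left) (Category.id_comp (pullback.fst f σ))).symm.trans this
    have hsq : IsPullback (pullback.fst f σ) α.left a.left Φ.left := by
      refine IsPullback.of_bot ?_ hx hpb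
      rw [show α.left ≫ J.hom = fG f σ from Over.w α, haw]
      exact IsPullback.of_hasPullback f σ
    haveI : IsIso (pullback.snd a.left Φ.left) := by
      rw [← hsq.isoPullback_inv_snd]
      infer_instance
    let ε := hpb.isoPullback
    have hε : ε.hom ≫ pullback.fst P₀.hom σ = Φ.left := hpb.isoPullback_hom_fst
    let k : pullback a.left Φ.left ⟶ pullback a.left (pullback.fst P₀.hom σ) :=
      pullback.lift (pullback.fst _ _) (pullback.snd _ _ ≫ ε.hom) (by rw [Category.assoc, hε, pullback.condition])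
    have hk : IsPullback k (pullback.snd a.left Φ.left) (pullback.snd a.left (pullback.fst P₀.hom σ)) ε.hom := by
      refine IsPullback.of_right ?_ (pullback.lift_snd _ _ _) (IsPullback.of_hasPullback a.left (pullback.fst P₀.hom σ))
      rw [hε, show k ≫ pullback.fst a.left (pullback.fst P₀.hom σ) = pullback.fst a.left Φ.left from pullback.lift_fst _ _ _]
      exact IsPullback.of_hasPullback a.left Φ.left
    haveI : IsIso k := hk.isIso_fst_of_isIso
    rw [show pullback.snd a.left (pullback.fst P₀.hom σ) = inv k ≫ pullback.snd a.left Φ.left ≫ ε.hom by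
      rw [← hk.w, IsIso.inv_hom_id_assoc]]
    infer_instance
  haveI : IsOpenImmersion a.left := FlatMisc.isOpenImmersion_of_fibres P₀.hom a.left fun s => by
    haveI := hfib s
    infer_instance
  haveI : Surjective a.left := ⟨fun z => by
    haveI := hfib (P₀.hom z)
    obtain ⟨w, hw⟩ : z ∈ Set.range (P₀.hom.fiberι (P₀.hom z)) := FlatMisc.mem_range_fiberι P₀.hom _ z rfl
    obtain ⟨v, hv⟩ := (pullback.snd a.left (P₀.hom.fiberι (P₀.hom z))).surjective w
    refine ⟨pullback.fst a.left (P₀.hom.fiberι (P₀.hom z)) v, ?_⟩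
    rw [← Scheme.Hom.comp_apply, pullback.condition, Scheme.Hom.comp_apply, hv, hw]⟩
  exact (isIso_iff_isOpenImmersion_and_surjective a.left).mpr ⟨inferInstance, inferInstance⟩

end Groth.Agent.PicRelC

end
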