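import Groth.Agent.PicCurve.Alb.Mono
import Groth.Agent.FppfPic.Separated
import Groth.Agent.S7791

/-!
# A smooth proper relative curve over a geometric point of the base
-/

noncomputable section

set_option autoImplicit false
set_option linter.style.haveILetI false
set_option linter.unusedSectionVars false
set_option backward.isDefEq.respectTransparency false
set_option backward.isDefEq.respectTransparency.types false
set_option maxHeartbeats 1000000
set_option synthInstance.maxHeartbeats 400000
attribute [-instance] CategoryTheory.catToReflQuiver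

universe u

open CategoryTheory CategoryTheory.Limits AlgebraicGeometry TopologicalSpace Opposite
  MonoidalCategory CartesianMonoidalCategory
open Groth.Agent.H23.PicMul

namespace Groth.Agent.PicRelC

open PicCurve

/-- descent of maps along flat surjective maps locally of finite presentation -/
theorem exists_desc {S : Scheme.{u}} {P Q A : Over S} (m : P ⟶ Q) [Flat m.left] [Surjective m.left]
    [LocallyOfFinitePresentation m.left] (w : P ⟶ A)
    (h : ∀ (R : Over S) (r₁ r₂ : R ⟶ P), r₁ ≫ m = r₂ ≫ m → r₁ ≫ w = r₂ ≫ w) : ∃ d : Q ⟶ A, m ≫ d = w := by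
  haveI : EffectiveEpi m.left := inferInstance
  let d := EffectiveEpi.desc m.left w.left fun {Z} g₁ g₂ hg => by
    let R : Over S := Over.mk (g₁ ≫ P.hom)
    let a : R ⟶ P := Over.homMk g₁
    let b : R ⟶ P := Over.homMk g₂ (by
      show g₂ ≫ P.hom = g₁ ≫ P.hom
      rw [← Over.w m, ← Category.assoc, ← hg, Category.assoc])
    exact congr($(h R a b (Over.OverMorphism.ext hg)).left)
  have hd : m.left ≫ d = w.left := EffectiveEpi.fac _ _ _
  exact ⟨Over.homMk d ((cancel_epi m.left).1 (by rw [← Category.assoc, hd, Over.w w, Over.w m])),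
    Over.OverMorphism.ext hd⟩

theorem epi_flat {S : Scheme.{u}} {P Q : Over S} (m : P ⟶ Q) [Flat m.left] [Surjective m.left] : Epi m :=
  haveI := Flat.epi_of_flat_of_surjective m.left
  ⟨fun _ _ h => Over.OverMorphism.ext ((cancel_epi m.left).1 (congr($(h).left)))⟩

variable {C S : Scheme.{u}} (f : C ⟶ S) {Ω : Type u} [Field Ω] (σ : Spec (CommRingCat.of Ω) ⟶ S)

/-- the curve over the point -/
abbrev fG : pullback f σ ⟶ Spec (CommRingCat.of Ω) := pullback.snd f σ

/-- a scheme over the point as a scheme over the base -/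
abbrev ovG (T : Over (Spec (CommRingCat.of Ω))) : Over S := Over.mk (T.hom ≫ σ)

/-- a map over the point as a map over the base -/
abbrev ovGmap {T T' : Over (Spec (CommRingCat.of Ω))} (g : T' ⟶ T) : ovG σ T' ⟶ ovG σ T :=
  Over.homMk g.left (Over.w_assoc g σ)

/-- the two ways to form a family -/
def eT (T : Over (Spec (CommRingCat.of Ω))) : PicF.XT f (ovG σ T) ≅ PicF.XT (fG f σ) T :=
  (pullbackLeftPullbackSndIso f σ T.hom).symm

theorem eT_fst (T : Over (Spec (CommRingCat.of Ω))) :
    (eT f σ T).hom ≫ pullback.fst (fG f σ) T.hom ≫ pullback.fst f σ = pullback.fst f (T.hom ≫ σ) :=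
  pullbackLeftPullbackSndIso_inv_fst f σ T.hom

theorem eT_snd (T : Over (Spec (CommRingCat.of Ω))) :
    (eT f σ T).hom ≫ PicF.XTproj (fG f σ) T = PicF.XTproj f (ovG σ T) :=
  pullbackLeftPullbackSndIso_inv_snd_snd f σ T.hom

theorem eT_natural {T T' : Over (Spec (CommRingCat.of Ω))} (g : T' ⟶ T) :
    PicF.XTmap f (ovGmap σ g) ≫ (eT f σ T).hom = (eT f σ T').hom ≫ PicF.XTmap (fG f σ) g := by
  have h1 := eT_fst f σ T
  have h2 := eT_fst f σ T'
  have h3 := eT_snd f σ T
  have h4 := eT_snd f σ T'
  simp only [PicF.XTproj] at h3 h4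
  refine pullback.hom_ext (pullback.hom_ext ?_ ?_) ?_
  · simp only [Category.assoc]
    rw [h1]
    simp only [PicF.XTmap, pullback.lift_fst_assoc, Category.comp_id, pullback.map]
    exact (pullback.lift_fst _ _ _).trans h2.symm
  · simp only [Category.assoc, pullback.condition]
    rw [reassoc_of% h3]
    simp only [PicF.XTmap, pullback.lift_snd_assoc, Category.assoc, pullback.map]
    rw [reassoc_of% h4]
    rfl
  · simp only [Category.assoc]
    rw [h3]
    simp only [PicF.XTmap, pullback.lift_snd, pullback.map]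
    rw [reassoc_of% h4]
    rfl

/-- a class on the curve over the point as a class over the base -/
def clG {T : Over (Spec (CommRingCat.of Ω))} (a : PicF.Cl (PicF.XT (fG f σ) T)) : PicF.Cl (PicF.XT f (ovG σ T)) :=
  PicF.pullCl (eT f σ T).hom a

/-- a class over the base as a class on the curve over the point -/
def clG' {T : Over (Spec (CommRingCat.of Ω))} (a : PicF.Cl (PicF.XT f (ovG σ T))) : PicF.Cl (PicF.XT (fG f σ) T) :=
  PicF.pullCl (eT f σ T).inv a

theorem clG_clG' {T : Over (Spec (CommRingCat.of Ω))} (a : PicF.Cl (PicF.XT f (ovG σ T))) :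
    clG f σ (clG' f σ a) = a := by
  rw [clG, clG', PicClLib.pullCl_comp, Iso.hom_inv_id, PicClLib.pullCl_id]

theorem clG'_clG {T : Over (Spec (CommRingCat.of Ω))} (a : PicF.Cl (PicF.XT (fG f σ) T)) :
    clG' f σ (clG f σ a) = a := by
  rw [clG, clG', PicClLib.pullCl_comp, Iso.inv_hom_id, PicClLib.pullCl_id]

theorem clG_mul {T : Over (Spec (CommRingCat.of Ω))} (a b : PicF.Cl (PicF.XT (fG f σ) T)) :
    clG f σ (a * b) = clG f σ a * clG f σ b := pullCl_mul _ _ _

theorem clG'_mul {T : Over (Spec (CommRingCat.of Ω))} (a b : PicF.Cl (PicF.XT f (ovG σ T))) :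
    clG' f σ (a * b) = clG' f σ a * clG' f σ b := pullCl_mul _ _ _

theorem isInvertibleCl_clG {T : Over (Spec (CommRingCat.of Ω))} {a : PicF.Cl (PicF.XT (fG f σ) T)}
    (ha : PicF.IsInvertibleCl a) : PicF.IsInvertibleCl (clG f σ a) := FppfPic.isInvertibleCl_pull _ ha

theorem isInvertibleCl_clG' {T : Over (Spec (CommRingCat.of Ω))} {a : PicF.Cl (PicF.XT f (ovG σ T))}
    (ha : PicF.IsInvertibleCl a) : PicF.IsInvertibleCl (clG' f σ a) := FppfPic.isInvertibleCl_pull _ ha

theorem clG_pull {T T' : Over (Spec (CommRingCat.of Ω))} (g : T' ⟶ T) (a : PicF.Cl (PicF.XT (fG f σ) T)) :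
    clG f σ (PicF.pullCl (PicF.XTmap (fG f σ) g) a) = PicF.pullCl (PicF.XTmap f (ovGmap σ g)) (clG f σ a) := by
  rw [clG, clG, PicClLib.pullCl_comp, PicClLib.pullCl_comp, eT_natural]

theorem clG'_pull {T T' : Over (Spec (CommRingCat.of Ω))} (g : T' ⟶ T) (a : PicF.Cl (PicF.XT f (ovG σ T))) :
    clG' f σ (PicF.pullCl (PicF.XTmap f (ovGmap σ g)) a) = PicF.pullCl (PicF.XTmap (fG f σ) g) (clG' f σ a) := by
  rw [← clG'_clG f σ (PicF.pullCl (PicF.XTmap (fG f σ) g) (clG' f σ a)), clG_pull, clG_clG']

theorem deg0At_clG [IsProper f] {T : Over (Spec (CommRingCat.of Ω))} {a : PicF.Cl (PicF.XT (fG f σ) T)}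
    (ha : PicF.IsInvertibleCl a) (t : T.left) : Deg0At f (clG f σ a) t ↔ Deg0At (fG f σ) a t := by
  haveI : IsProper (PicF.XTproj (fG f σ) T) := inferInstanceAs (IsProper (pullback.snd (fG f σ) T.hom))
  obtain ⟨L, rfl, hL⟩ := ha
  have h : IsPullback (eT f σ T).hom (PicF.XTproj f (ovG σ T)) (PicF.XTproj (fG f σ) T) (𝟙 T.left) :=
    haveI : IsIso (𝟙 T.left) := inferInstanceAs (IsIso (Iso.refl T.left).hom)
    IsPullback.of_horiz_isIso ⟨by rw [eT_snd]; exact (Category.comp_id _).symm⟩
  show Deg0At f (PicF.cl ((Scheme.Modules.pullback (eT f σ T).hom).obj L)) t ↔ _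
  rw [deg0At_cl, deg0At_cl, chiAt_bc (PicF.XTproj (fG f σ) T) h (isQCoh_inv hL),
    show chiAt (PicF.XTproj f (ovG σ T)) (Coh.structureModule _) t =
      chiAt (PicF.XTproj (fG f σ) T) (Coh.structureModule _) t from
    (chiAt_congr _ (CurveBC.unitIso _).symm t).trans
      (chiAt_bc (PicF.XTproj (fG f σ) T) h (PnCoh.isQCoh_structureModule _) t)]
  rfl

variable [IsAlgClosed Ω] [IsProper f] [Smooth f] [GeometricallyConnected f]
  (hdim : ∀ s : S, topologicalKrullDim ↥(f.fiber s) = 1)

include hdim in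
/-- the curve over a geometric point is a curve with a point -/
theorem curve_facts :
    ∃ (e : Spec (CommRingCat.of Ω) ⟶ pullback f σ) (_ : e ≫ fG f σ = 𝟙 _),
      IsProper (fG f σ) ∧ Smooth (fG f σ) ∧ SmoothOfRelativeDimension 1 (fG f σ) ∧ GeometricallyIntegral (fG f σ) ∧
        IsIntegral (pullback f σ) ∧ topologicalKrullDim ↥(pullback f σ) = 1 := by
  haveI : IsProper (fG f σ) := inferInstanceAs (IsProper (pullback.snd f σ))
  haveI : Smooth (fG f σ) := inferInstanceAs (Smooth (pullback.snd f σ))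
  haveI : GeometricallyConnected (fG f σ) := inferInstanceAs (GeometricallyConnected (pullback.snd f σ))
  haveI : ConnectedSpace ↥(pullback f σ) := GeometricallyConnected.connectedSpace_of_subsingleton (fG f σ)
  have hd : topologicalKrullDim ↥(pullback f σ) = 1 :=
    (CurveFibDeg.topologicalKrullDim_fieldFibre f σ).trans (hdim _)
  haveI : JacobsonSpace ↥(pullback f σ) := LocallyOfFiniteType.jacobsonSpace (fG f σ)
  obtain ⟨w, -, hw⟩ := nonempty_inter_closedPoints (X := ↥(pullback f σ)) (Z := Set.univ) Set.univ_nonempty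
    isOpen_univ.isLocallyClosed
  let e := (pointEquivClosedPoint (fG f σ)).symm ⟨w, hw⟩
  haveI : GeometricallyIntegral (fG f σ) := Groth.Agent.S7791.result (fG f σ) e.1 e.2
  haveI : IsIntegral (pullback f σ) := GeometricallyIntegral.isIntegral_of_subsingleton (fG f σ)
  refine ⟨e.1, e.2, inferInstance, inferInstance, HilbCurve.smoothOfRelativeDimension_one (fG f σ) hd, inferInstance,
    GeometricallyIntegral.isIntegral_of_subsingleton (fG f σ), hd⟩

include hdim in
theorem curveDim : topologicalKrullDim ↥(pullback f σ) = 1 :=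
  (CurveFibDeg.topologicalKrullDim_fieldFibre f σ).trans (hdim _)

/-- the genus of the curve over the point -/
theorem gen_eq [SmoothOfRelativeDimension 1 (fG f σ)] [GeometricallyIntegral (fG f σ)] [IsIntegral (pullback f σ)]
    [IsProper (fG f σ)] [Smooth (fG f σ)] (t : Spec (CommRingCat.of Ω)) :
    PicCurve.Alb.gen (fG f σ) = CohIII.fiberRank f (Coh.structureModule C) 1 (σ t) := by
  rw [← PBC.fiberRank_bc (IsPullback.of_hasPullback f σ) (PnCoh.isQCoh_structureModule _) 1 t,
    PBC.fiberRank_congr _ (CurveBC.unitIso _) 1 t]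
  exact (QuotRep.fiberRank_field (fG f σ) (PnCoh.isQCoh_structureModule _) 1 t).symm

end Groth.Agent.PicRelC

end
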