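import Groth.Agent.PicRelC.Zero
import Groth.Agent.H23.MaxAbelian
import Groth.Agent.S7791

/-!
# The degree zero Picard scheme is an open and closed part of the Picard scheme
-/

noncomputable section

set_option autoImplicit false
set_option linter.style.haveILetI false
set_option linter.unusedSectionVars false
set_option backward.isDefEq.respectTransparency false
set_option backward.isDefEq.respectTransparency.types false
set_option maxHeartbeats 1000000
set_option synthInstance.maxHeartbeats 400000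
attribute [-instance] CategoryTheory.catToReflQuiver

universe u

open CategoryTheory CategoryTheory.Limits AlgebraicGeometry TopologicalSpace Opposite
open Groth.Agent.H23.PicMul

namespace Groth.Agent.PicRelC

open PicCurve

variable {C S : Scheme.{u}} (f : C ⟶ S) [IsProper f] [Smooth f] [GeometricallyConnected f]

/-- a smooth proper morphism with geometrically connected fibres has geometrically integral fibres -/
theorem geometricallyIntegral_f : GeometricallyIntegral f := by
  refine H23.MaxAbelian.geometricallyIntegral_of_pullback f fun K _ x => ?_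
  haveI : ConnectedSpace ↥(pullback f x) :=
    GeometricallyConnected.geometrically_connectedSpace _ _ _ (.of_hasPullback f x)
  haveI : CompactSpace ↥(pullback f x) := QuasiCompact.compactSpace_of_compactSpace (pullback.snd f x)
  exact CurveCohLib.isIntegral_of_smooth_connected (pullback.snd f x)

variable (hdim : ∀ s : S, topologicalKrullDim ↥(f.fiber s) = 1)
  {P : Over S} {φ : ∀ T : Over S, PicF.Cl (PicF.XT f T) → (T ⟶ P)}
  (hP : AbDual.IsRelPicK Scheme.fppfPrecoverage f P φ)
  {P₀ : Over S} {φ₀ : ∀ T : Over S, PicF.Cl (PicF.XT f T) → (T ⟶ P₀)}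
  (hP₀ : AbDual.IsRelPicZeroK Scheme.fppfPrecoverage f P₀ φ₀)
  (j : P₀ ⟶ P) (hj : ∀ (T : Over S) (c : PicF.Cl (PicF.XT f T)), AbDual.IsPicZeroCl f T c → φ₀ T c ≫ j = φ T c)

include hdim hP hP₀ hj

/-- points of the degree zero part with the same image are equal -/
theorem j_inj {T : Over S} (a b : T ⟶ P₀) (h : a ≫ j = b ≫ j) : a = b := by
  obtain ⟨U, u, hfl, -, hsur, c, hc, hφc⟩ := exists_cl_cover0 f hdim hP₀ T a
  haveI : Flat (AbDual.ovrHom T u).left := hfl
  haveI : Surjective (AbDual.ovrHom T u).left := hsur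
  haveI := epi_flat (AbDual.ovrHom T u)
  obtain ⟨U', u', hfl', -, hsur', d, hd, hφd⟩ := exists_cl_cover0 f hdim hP₀ (AbDual.ovr T u) (AbDual.ovrHom T u ≫ b)
  haveI : Flat (AbDual.ovrHom (AbDual.ovr T u) u').left := hfl'
  haveI : Surjective (AbDual.ovrHom (AbDual.ovr T u) u').left := hsur'
  haveI := epi_flat (AbDual.ovrHom (AbDual.ovr T u) u')
  rw [← cancel_epi (AbDual.ovrHom T u), ← cancel_epi (AbDual.ovrHom (AbDual.ovr T u) u'), ← hφd, ← hφc,
    ← hP₀.natural _ _ _ _ hc]
  have hc' := isPicZeroCl_pull f hdim (AbDual.ovrHom (AbDual.ovr T u) u') hc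
  have e : φ _ (PicF.pullCl (PicF.XTmap f (AbDual.ovrHom (AbDual.ovr T u) u')) c) = φ _ d := by
    rw [← hj _ _ hc', ← hj _ _ hd, hP₀.natural _ _ _ _ hc, hφc, hφd]
    simp only [Category.assoc, h]
  obtain ⟨R, hR, he⟩ := hP.locallyInjective _ _ _ ((isPicZeroCl_iff f hdim _).1 hc').1
    ((isPicZeroCl_iff f hdim _).1 hd).1 e
  obtain ⟨ι', U'', u'', hu, hfl'', -, hsur''⟩ := FppfPic.exists_sigma_cover hR
  haveI := hfl''; haveI := hsur''
  haveI := Flat.epi_of_flat_of_surjective (Sigma.desc u'')
  refine Over.OverMorphism.ext ((cancel_epi (Sigma.desc u'')).1 (Sigma.hom_ext _ _ fun i => ?_))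
  rw [← Category.assoc, ← Category.assoc, Sigma.ι_desc]
  have e1 := congrArg (φ₀ _) (he (u'' i) (hu i))
  rw [hP₀.natural _ _ _ _ hc', hP₀.natural _ _ _ _ hd] at e1
  exact congr($(e1).left)

theorem mono_j : Mono j.left := by
  refine ⟨fun {Z} a b h => ?_⟩
  let T : Over S := Over.mk (a ≫ P₀.hom)
  let a' : T ⟶ P₀ := Over.homMk a rfl
  let b' : T ⟶ P₀ := Over.homMk b (by
    show b ≫ P₀.hom = a ≫ P₀.hom
    rw [← Over.w j, reassoc_of% h])
  exact congr($(j_inj f hdim hP hP₀ j hj a' b' (Over.OverMorphism.ext h)).left)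

/-- the degree zero Picard scheme is open and closed in the Picard scheme -/
theorem isOpenImmersion_isClosedImmersion_j : IsOpenImmersion j.left ∧ IsClosedImmersion j.left := by
  haveI := mono_j f hdim hP hP₀ j hj
  obtain ⟨d, hd, hdeg⟩ := exists_degree f hP fun s => (hdim s).le
  let W : P.left.Opens := ⟨d ⁻¹' {0}, hd {0}⟩
  have hWc : IsClosed (W : Set P.left) := by
    rw [← isOpen_compl_iff]
    exact hd {0}ᶜ
  have hrange : ∀ z : P₀.left, j.left z ∈ W := by
    intro z
    obtain ⟨U, u, -, -, hsur, c, hc, hφc⟩ := exists_cl_cover0 f hdim hP₀ P₀ (𝟙 P₀)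
    obtain ⟨y, rfl⟩ := hsur.surj z
    have h1 : φ (AbDual.ovr P₀ u) c = AbDual.ovrHom P₀ u ≫ j := by
      rw [← hj _ _ hc, hφc, Category.comp_id]
    have h2 := hdeg _ c ((isPicZeroCl_iff f hdim _).1 hc).1 y
    rw [h1, ((isPicZeroCl_iff f hdim _).1 hc).2 y] at h2
    simp only [Over.comp_left, Scheme.Hom.comp_apply] at h2
    exact h2
  let TW : Over S := AbDual.ovr P W.ι
  obtain ⟨U, u, hfl, hlfp, hsur, c, hc, hφc⟩ := FppfPic.exists_cl_cover f hP TW (AbDual.ovrHom P W.ι)
  have hc0 : AbDual.IsPicZeroCl f (AbDual.ovr TW u) c := by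
    refine (isPicZeroCl_iff f hdim _).2 ⟨hc, fun y => ?_⟩
    rw [← hdeg _ c hc y, hφc]
    exact (u y).2
  let q := AbDual.ovrHom TW u
  haveI : Flat q.left := hfl
  haveI : Surjective q.left := hsur
  haveI : LocallyOfFinitePresentation q.left := hlfp
  have hm : φ₀ _ c ≫ j = q ≫ AbDual.ovrHom P W.ι := by rw [hj _ _ hc0, hφc]
  obtain ⟨g, hg⟩ := exists_desc q (φ₀ _ c) fun R r₁ r₂ h => j_inj f hdim hP hP₀ j hj _ _ (by
    rw [Category.assoc, Category.assoc, hm, reassoc_of% h])
  have hgj : g ≫ j = AbDual.ovrHom P W.ι := by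
    haveI := epi_flat q
    rw [← cancel_epi q, ← Category.assoc, hg, hm]
  let l : P₀.left ⟶ (W : Scheme.{u}) := IsOpenImmersion.lift W.ι j.left (by
    rintro _ ⟨z, rfl⟩
    rw [Scheme.Opens.range_ι]
    exact hrange z)
  have hl : l ≫ W.ι = j.left := IsOpenImmersion.lift_fac _ _ _
  have hgj' : g.left ≫ j.left = W.ι := congr($(hgj).left)
  haveI : IsIso l := ⟨g.left, by
      rw [← cancel_mono j.left, Category.assoc, hgj', hl, Category.id_comp],
    by
      show g.left ≫ l = 𝟙 (W : Scheme.{u})
      exact (cancel_mono W.ι).1 (((Category.assoc _ _ _).trans (by rw [hl, hgj'])).trans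
        (Category.id_comp _).symm)⟩
  haveI : IsOpenImmersion j.left := by rw [← hl]; infer_instance
  refine ⟨inferInstance, IsClosedImmersion.of_isPreimmersion _ ?_⟩
  convert hWc using 1
  ext z
  constructor
  · rintro ⟨z, rfl⟩
    exact hrange z
  · intro hz
    refine ⟨g.left ⟨z, hz⟩, ?_⟩
    have := congr($hgj' ⟨z, hz⟩)
    simp only [Scheme.Hom.comp_apply] at this
    exact this

/-- the degree zero Picard scheme is separated -/
theorem isSeparated_P₀ : IsSeparated P₀.hom := by
  haveI := geometricallyIntegral_f f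
  haveI := FppfPic.isSeparated f hP
  haveI := (isOpenImmersion_isClosedImmersion_j f hdim hP hP₀ j hj).2
  rw [← Over.w j]
  infer_instance

/-- the degree zero Picard scheme is locally of finite presentation -/
theorem lfp_P₀ [LocallyOfFinitePresentation P.hom] : LocallyOfFinitePresentation P₀.hom := by
  haveI := (isOpenImmersion_isClosedImmersion_j f hdim hP hP₀ j hj).1
  rw [← Over.w j]
  infer_instance

end Groth.Agent.PicRelC

end
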