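import Groth.Agent.PicRelC.PwFlat
import Groth.Agent.PicRelC.Open
import Groth.Agent.PicRelC.Fibre
import Groth.Agent.FlatPtDesc.Basic
import Groth.Agent.S1386
import Groth.Agent.S2156
import Groth.Agent.Pi1X.GeomConnFF
import Mathlib.AlgebraicGeometry.Morphisms.LocalFlatDescent

/-!
# The degree zero Picard scheme is proper and smooth
-/

noncomputable section

set_option autoImplicit false
set_option linter.style.haveILetI false
set_option linter.unusedSectionVars false
set_option backward.isDefEq.respectTransparency false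
set_option backward.isDefEq.respectTransparency.types false
set_option maxHeartbeats 1000000
set_option synthInstance.maxHeartbeats 400000
attribute [-instance] CategoryTheory.catToReflQuiver

universe u

open CategoryTheory CategoryTheory.Limits AlgebraicGeometry TopologicalSpace Opposite
open Groth.Agent.H23.PicMul

namespace Groth.Agent.PicRelC

open PicCurve PicCurve.Alb HilbDLib

variable {C S : Scheme.{u}} (f : C ⟶ S) [IsProper f] [Smooth f] [GeometricallyConnected f]
  (hdim : ∀ s : S, topologicalKrullDim ↥(f.fiber s) = 1)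

include hdim in
/-- the Euler characteristic of the fibres is one minus the genus -/
theorem chiAt_eq (s : S) :
    chiAt f (Coh.structureModule C) s = 1 - (CohIII.fiberRank f (Coh.structureModule C) 1 s : ℤ) := by
  let Ω := AlgebraicClosure (S.residueField s)
  let σ : Spec (CommRingCat.of Ω) ⟶ S :=
    Spec.map (CommRingCat.ofHom (algebraMap (S.residueField s) Ω)) ≫ S.fromSpecResidueField s
  have hσ : σ (IsLocalRing.closedPoint Ω) = s :=
    (Scheme.Hom.comp_apply _ _ _).trans (Scheme.fromSpecResidueField_apply _ _)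
  obtain ⟨p, hp, _, _, _, _, _, hd⟩ := curve_facts f σ hdim
  let T : Over (Spec (CommRingCat.of Ω)) := Over.mk (𝟙 _)
  let t : T.left := (show Spec (CommRingCat.of Ω) from IsLocalRing.closedPoint Ω)
  have hpb : IsPullback (pullback.fst (fG f σ) T.hom ≫ pullback.fst f σ) (PicF.XTproj (fG f σ) T) f (T.hom ≫ σ) :=
    (IsPullback.of_hasPullback (fG f σ) T.hom).paste_horiz (IsPullback.of_hasPullback f σ)
  have h1 := chiCl_one (fG f σ) hd p hp (𝟙 _) t
  have h2 : chiCl (fG f σ) (1 : PicF.Cl (PicF.XT (fG f σ) T)) t = chiAt f (Coh.structureModule C) ((T.hom ≫ σ) t) := by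
    rw [one_def, chiCl_cl, ← chiAt_bc f hpb (PnCoh.isQCoh_structureModule _) t]
    exact chiAt_congr _ (CurveBC.unitIso _).symm t
  have h3 : (T.hom ≫ σ) t = s := congr($(Category.id_comp σ) t).trans hσ
  rw [h2, h3, gen_eq f σ (IsLocalRing.closedPoint Ω : Spec (CommRingCat.of Ω)), hσ] at h1
  exact h1

include hdim in
/-- the genus of the fibres is locally constant -/
theorem isLocallyConstant_genus : IsLocallyConstant fun s : S => CohIII.fiberRank f (Coh.structureModule C) 1 s := by
  haveI := smoothOfRelativeDimension_one f hdim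
  have h := (isLocallyConstant_chiAt f (PicLoc.isInvertible_structureModule _) fun s => (hdim s).le).comp
    fun x : ℤ => (1 - x).toNat
  convert h using 1
  funext s
  simp [Function.comp, chiAt_eq f hdim s]

variable {P₀ : Over S} {φ₀ : ∀ T : Over S, PicF.Cl (PicF.XT f T) → (T ⟶ P₀)}
  (hP₀ : AbDual.IsRelPicZeroK Scheme.fppfPrecoverage f P₀ φ₀)

include hdim hP₀ in
/-- over every point of the degree zero Picard scheme pairs of divisors have a point of flatness -/
theorem exists_flat_pair [LocallyOfFinitePresentation P₀.hom] (z : P₀.left) (s : S) (hs : P₀.hom z = s) :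
    letI := smoothOfRelativeDimension_one f hdim
    ∃ x : (Pw f (CohIII.fiberRank f (Coh.structureModule C) 1 s)).left,
      (φ₀ _ (pwCl f (CohIII.fiberRank f (Coh.structureModule C) 1 s))).left x = z ∧
        (P₀.hom.stalkMap z).hom.Flat := by
  haveI := smoothOfRelativeDimension_one f hdim
  let Ω := AlgebraicClosure (S.residueField s)
  let ρ : Spec (CommRingCat.of Ω) ⟶ Spec (S.residueField s) :=
    Spec.map (CommRingCat.ofHom (algebraMap (S.residueField s) Ω))
  haveI : Surjective ρ := GrpSchLib.surjective_spec_map_field (algebraMap (S.residueField s) Ω)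
  haveI : Flat ρ := inferInstance
  let σ : Spec (CommRingCat.of Ω) ⟶ S := ρ ≫ S.fromSpecResidueField s
  have hσ : σ (IsLocalRing.closedPoint Ω) = s :=
    (Scheme.Hom.comp_apply _ _ _).trans (Scheme.fromSpecResidueField_apply _ _)
  obtain ⟨p, hp, _, _, _, _, _, hd⟩ := curve_facts f σ hdim
  obtain ⟨J, ξ, hJp, hJs, hJi, hξ, huniv⟩ := exists_jacobian_field (fG f σ) hd p hp
  haveI := hJp; haveI := hJs; haveI := hJi
  haveI : IrreducibleSpace J.left := GeometricallyIrreducible.irreducibleSpace_of_subsingleton J.hom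
  obtain ⟨D⟩ := nonempty_tower (f := fG f σ) hd p hp
  have hgen : gen (fG f σ) = CohIII.fiberRank f (Coh.structureModule C) 1 s := by
    rw [gen_eq f σ (IsLocalRing.closedPoint Ω : Spec (CommRingCat.of Ω)), hσ]
  rw [← hgen]
  set n := gen (fG f σ)
  let ψ := φ₀ (Pw f n) (pwCl f n)
  let Φ := toP₀ (φ₀ := φ₀) f σ p hp ξ
  have hpb : IsPullback Φ.left J.hom P₀.hom σ := isPullback_toP₀ f hdim hP₀ σ p hp ξ hξ huniv
  -- the map of the fibres
  let j : J.left ⟶ P₀.hom.fiber s := pullback.lift Φ.left (J.hom ≫ ρ) (by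
    rw [Category.assoc]; exact hpb.w)
  have hjι : j ≫ P₀.hom.fiberι s = Φ.left := pullback.lift_fst _ _ _
  have hj : IsPullback j J.hom (P₀.hom.fiberToSpecResidueField s) ρ := by
    refine IsPullback.of_right ?_ (pullback.lift_snd _ _ _) (IsPullback.of_hasPullback P₀.hom (S.fromSpecResidueField s))
    rw [show j ≫ pullback.fst P₀.hom (S.fromSpecResidueField s) = Φ.left from hjι]
    exact hpb
  haveI : Flat j := MorphismProperty.of_isPullback (P := @Flat) hj.flip ‹Flat ρ›
  haveI : Surjective j := MorphismProperty.of_isPullback (P := @Surjective) hj.flip ‹Surjective ρ›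
  obtain ⟨z', hz'⟩ : ∃ z', Φ.left z' = z := by
    obtain ⟨w, hw⟩ : z ∈ Set.range (P₀.hom.fiberι s) := FlatMisc.mem_range_fiberι P₀.hom s z hs
    obtain ⟨z', rfl⟩ := j.surjective w
    exact ⟨z', by rw [← hjι, Scheme.Hom.comp_apply]; exact hw⟩
  obtain ⟨w, hw, hwf⟩ := exists_flat_point f σ D hdim p hp ξ hξ huniv z'
  let Ψ := pwΨ f σ D hdim p hp ξ hξ huniv n
  have hsq : IsPullback (pwT f σ n).left Ψ.left ψ.left Φ.left :=
    isPullback_pwT_Ψ f σ D hdim hP₀ p hp ξ hξ huniv n
  let x := (pwT f σ n).left w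
  have hx : ψ.left x = z := by
    rw [← Scheme.Hom.comp_apply, hsq.w, Scheme.Hom.comp_apply]
    exact (congrArg Φ.left hw).trans hz'
  refine ⟨x, hx, ?_⟩
  haveI := smooth_Pw f n
  haveI : LocallyOfFinitePresentation (ψ.left ≫ P₀.hom) := by rw [Over.w ψ]; infer_instance
  haveI : LocallyOfFinitePresentation ψ.left := AlgSpPts.locallyOfFinitePresentation_of_comp ψ.left P₀.hom
  have hflat : ((ψ.left ≫ P₀.hom).stalkMap x).hom.Flat := by
    rw [Over.w ψ]; exact Flat.stalkMap _ _
  -- descend flatness of the map of fibres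
  let fm := MoreMor.fiberMap ψ.left P₀.hom s
  have hfm : IsPullback ((ψ.left ≫ P₀.hom).fiberι s) fm ψ.left (P₀.hom.fiberι s) :=
    ConsPropLib.isPullback_fiberMap ψ.left P₀.hom s
  let k : (Pw (fG f σ) n).left ⟶ (ψ.left ≫ P₀.hom).fiber s :=
    hfm.lift (pwT f σ n).left (Ψ.left ≫ j) (by rw [Category.assoc, hjι]; exact hsq.w)
  have hk : IsPullback k Ψ.left fm j := by
    refine IsPullback.of_right ?_ (hfm.lift_snd _ _ _) hfm
    rw [hfm.lift_fst, hjι]
    exact hsq
  let e := hk.isoPullback
  have hw' : ((pullback.snd fm j).stalkMap (e.hom w)).hom.Flat := by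
    rw [← FibFlat.flat_stalk_open_comp e.hom (pullback.snd fm j), show e.hom ≫ pullback.snd fm j = Ψ.left from hk.isoPullback_hom_snd]
    exact hwf
  have hff := FlatPtDesc.flatAt_fst fm j (e.hom w) (Flat.stalkMap _ _) hw'
  have hkw : pullback.fst fm j (e.hom w) = k w := by
    rw [← Scheme.Hom.comp_apply, hk.isoPullback_hom_fst]
  rw [hkw] at hff
  have hkx : (ψ.left ≫ P₀.hom).fiberι s (k w) = x := by
    rw [← Scheme.Hom.comp_apply, hfm.lift_fst]
    rfl
  have hFF : FibFlat.FF ψ.left P₀.hom x := (FibFlat.fiberMap_flat_iff_aux ψ.left P₀.hom s (k w) x hkx).1 hff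
  have h := (((S1386.result ψ.left P₀.hom).1 x).1 ⟨hflat, (FibFlat.fiberMap_flat_iff ψ.left P₀.hom x).2 hFF⟩).1
  exact S1386.flat_of_point_eq P₀.hom hx h

include hdim hP₀ in
theorem flat_P₀ [LocallyOfFinitePresentation P₀.hom] : Flat P₀.hom :=
  Flat.of_stalkMap _ fun z =>
    let ⟨_, _, h⟩ := exists_flat_pair f hdim hP₀ z _ rfl
    h

include hdim hP₀ in
/-- the degree zero Picard scheme is smooth -/
theorem smooth_P₀ [LocallyOfFinitePresentation P₀.hom] : Smooth P₀.hom := by
  haveI := flat_P₀ f hdim hP₀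
  rw [← Scheme.Hom.smoothLocus_eq_top_iff, eq_top_iff]
  intro z _
  let s := P₀.hom z
  let Ω := AlgebraicClosure (S.residueField s)
  let ρ : Spec (CommRingCat.of Ω) ⟶ Spec (S.residueField s) :=
    Spec.map (CommRingCat.ofHom (algebraMap (S.residueField s) Ω))
  haveI : Surjective ρ := GrpSchLib.surjective_spec_map_field (algebraMap (S.residueField s) Ω)
  haveI : Flat ρ := inferInstance
  haveI : QuasiCompact ρ := inferInstance
  have hsm := (geomFibre_facts f hdim hP₀ (ρ ≫ S.fromSpecResidueField s)).2.1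
  let e := pullbackLeftPullbackSndIso P₀.hom (S.fromSpecResidueField s) ρ
  have hfib : Smooth (P₀.hom.fiberToSpecResidueField s) := by
    haveI := hsm
    haveI : Smooth (pullback.snd (P₀.hom.fiberToSpecResidueField s) ρ) := by
      show Smooth (pullback.snd (pullback.snd P₀.hom (S.fromSpecResidueField s)) ρ)
      rw [← show e.hom ≫ pullback.snd P₀.hom (ρ ≫ S.fromSpecResidueField s) =
        pullback.snd (pullback.snd P₀.hom (S.fromSpecResidueField s)) ρ from pullbackLeftPullbackSndIso_hom_snd _ _ _]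
      infer_instance
    exact MorphismProperty.of_pullback_snd_of_descendsAlong (P := @Smooth)
      (Q := @Surjective ⊓ @Flat ⊓ @QuasiCompact) ⟨⟨‹_›, ‹_›⟩, ‹_›⟩ ‹_›
  haveI := hfib
  rw [Groth.Agent.S2156.result P₀.hom z]
  exact ⟨Flat.stalkMap _ _, by rw [(P₀.hom.fiberToSpecResidueField s).smoothLocus_eq_top]; trivial⟩

include hdim hP₀ in
/-- the degree zero Picard scheme is proper -/
theorem isProper_P₀ [LocallyOfFinitePresentation P₀.hom] [IsSeparated P₀.hom] : IsProper P₀.hom := by
  haveI := smoothOfRelativeDimension_one f hdim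
  let g := fun s : S => CohIII.fiberRank f (Coh.structureModule C) 1 s
  let V : ℕ → S.Opens := fun n => ⟨g ⁻¹' {n}, (isLocallyConstant_genus f hdim) {n}⟩
  haveI : UniversallyClosed P₀.hom := by
    refine (IsZariskiLocalAtTarget.iff_of_iSup_eq_top (P := @UniversallyClosed) (f := P₀.hom) V
      (eq_top_iff.2 fun s _ => Opens.mem_iSup.2 ⟨g s, rfl⟩)).2 fun n => ?_
    let ψ := φ₀ (Pw f n) (pwCl f n)
    haveI := isProper_Pw f n
    haveI : Surjective (ψ.left ∣_ (P₀.hom ⁻¹ᵁ V n)) := ⟨fun y => by
      have hy : g (P₀.hom y.1) = n := y.2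
      obtain ⟨x, hx⟩ : ∃ x : (Pw f n).left, ψ.left x = y.1 := by
        obtain ⟨x, hx, -⟩ := exists_flat_pair f hdim hP₀ y.1 _ rfl
        revert x
        rw [show CohIII.fiberRank f (Coh.structureModule C) 1 (P₀.hom y.1) = n from hy]
        exact fun x hx => ⟨x, hx⟩
      refine ⟨⟨x, show ψ.left x ∈ P₀.hom ⁻¹ᵁ V n by rw [show ψ.left x = y.1 from hx]; exact y.2⟩, ?_⟩
      apply Subtype.ext
      rw [morphismRestrict_base]
      exact hx⟩
    haveI : UniversallyClosed ((ψ.left ∣_ (P₀.hom ⁻¹ᵁ V n)) ≫ (P₀.hom ∣_ V n)) := by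
      have h : UniversallyClosed (ψ.left ≫ P₀.hom) := by rw [Over.w ψ]; infer_instance
      rw [← morphismRestrict_comp]
      exact IsZariskiLocalAtTarget.restrict h _
    exact UniversallyClosed.of_comp_surjective (ψ.left ∣_ (P₀.hom ⁻¹ᵁ V n)) (P₀.hom ∣_ V n)
  exact { }

include hdim hP₀ in
/-- the geometric fibres of the degree zero Picard scheme are connected -/
theorem geometricallyConnected_P₀ : GeometricallyConnected P₀.hom :=
  Pi1X.geometricallyConnected_of_isAlgClosed P₀.hom fun Ω _ _ σ => by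
    haveI := (geomFibre_facts f hdim hP₀ σ).2.2.1
    haveI : IrreducibleSpace ↥(pullback P₀.hom σ) :=
      GeometricallyIrreducible.irreducibleSpace_of_subsingleton (pullback.snd P₀.hom σ)
    infer_instance

end Groth.Agent.PicRelC

end
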