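import Groth.Agent.PicRelC.Zero
import Groth.Agent.PicRelC.Abel

/-!
# Differences of effective divisors of points on a relative curve
-/

noncomputable section

set_option autoImplicit false
set_option linter.style.haveILetI false
set_option linter.unusedSectionVars false
set_option backward.isDefEq.respectTransparency false
set_option backward.isDefEq.respectTransparency.types false
set_option maxHeartbeats 1000000
set_option synthInstance.maxHeartbeats 400000
attribute [-instance] CategoryTheory.catToReflQuiver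

universe u

open CategoryTheory CategoryTheory.Limits AlgebraicGeometry TopologicalSpace Opposite
  MonoidalCategory CartesianMonoidalCategory
open Groth.Agent.H23.PicMul

namespace Groth.Agent.PicRelC

open PicCurve PicCurve.Alb HilbDLib

section Pw

variable {C S : Scheme.{u}} (f : C ⟶ S)

/-- the scheme of `n` pairs of points of the curve -/
def Pw : ℕ → Over S
  | 0 => Over.mk (𝟙 S)
  | n + 1 => HX f (HX f (Pw n))

/-- forgetting the last pair -/
abbrev pwD (n : ℕ) : Pw f (n + 1) ⟶ Pw f n := prH f (HX f (Pw f n)) ≫ prH f (Pw f n)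

/-- the first point of the last pair -/
abbrev pwX (n : ℕ) : Pw f (n + 1) ⟶ Over.mk f := prX f (HX f (Pw f n))

/-- the second point of the last pair -/
abbrev pwY (n : ℕ) : Pw f (n + 1) ⟶ Over.mk f := prH f (HX f (Pw f n)) ≫ prX f (Pw f n)

theorem isProper_Pw [IsProper f] : ∀ n, IsProper (Pw f n).hom
  | 0 => inferInstanceAs (IsProper (𝟙 S))
  | n + 1 => by
    haveI := isProper_Pw n
    haveI : IsProper (HX f (Pw f n)).hom := inferInstanceAs (IsProper (pullback.fst (Pw f n).hom f ≫ (Pw f n).hom))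
    exact inferInstanceAs (IsProper (pullback.fst (HX f (Pw f n)).hom f ≫ (HX f (Pw f n)).hom))

theorem smooth_Pw [Smooth f] : ∀ n, Smooth (Pw f n).hom
  | 0 => inferInstanceAs (Smooth (𝟙 S))
  | n + 1 => by
    haveI := smooth_Pw n
    haveI : Smooth (HX f (Pw f n)).hom := inferInstanceAs (Smooth (pullback.fst (Pw f n).hom f ≫ (Pw f n).hom))
    exact inferInstanceAs (Smooth (pullback.fst (HX f (Pw f n)).hom f ≫ (HX f (Pw f n)).hom))

end Pw

variable {C S : Scheme.{u}} (f : C ⟶ S) [IsProper f] [Smooth f] [SmoothOfRelativeDimension 1 f]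

theorem isInvertibleCl_gr {T : Over S} (x : T ⟶ Over.mk f) :
    PicF.IsInvertibleCl (PicF.cl (ClSub.idealMod (gr x))) :=
  ⟨_, rfl, Big.isInvertible_ideal (RelCurveDiv.isEffCartier_of_finLocFree _ _
    (deg_secGraph f T x.left (Over.w x)).1).1⟩

theorem pull_clGr {T T' : Over S} (g : T' ⟶ T) (x : T ⟶ Over.mk f) :
    PicF.pullCl (PicF.XTmap f g) (PicF.cl (ClSub.idealMod (gr x))) = PicF.cl (ClSub.idealMod (gr (g ≫ x))) := by
  show PicF.cl _ = _
  rw [← pull_gr, pull_eq_comap]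
  refine Big.cl_idealMod_comap (PicF.XTmap f g) _
    (RelCurveDiv.isEffCartier_of_finLocFree _ _ (deg_secGraph f T x.left (Over.w x)).1).1 ?_
  rw [← pull_eq_comap, pull_gr]
  exact (RelCurveDiv.isEffCartier_of_finLocFree _ _ (deg_secGraph f T' (g ≫ x).left (Over.w (g ≫ x))).1).1

/-- the class of the difference of two points -/
def pairCl {T : Over S} (x y : T ⟶ Over.mk f) : PicF.Cl (PicF.XT f T) :=
  invCl (isInvertibleCl_gr f x) * PicF.cl (ClSub.idealMod (gr y))

theorem pull_pairCl {T T' : Over S} (g : T' ⟶ T) (x y : T ⟶ Over.mk f) :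
    PicF.pullCl (PicF.XTmap f g) (pairCl f x y) = pairCl f (g ≫ x) (g ≫ y) := by
  rw [pairCl, pairCl, pullCl_mul, pull_invCl]
  exact congrArg₂ (· * ·) (invCl_congr _ _ (pull_clGr f g x)) (pull_clGr f g y)

theorem isInvertibleCl_pairCl {T : Over S} (x y : T ⟶ Over.mk f) : PicF.IsInvertibleCl (pairCl f x y) :=
  isInvertibleCl_mul (isInvertibleCl_invCl _) (isInvertibleCl_gr f y)

/-- the class of the difference of two divisors of points -/
def pwCl : ∀ n, PicF.Cl (PicF.XT f (Pw f n))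
  | 0 => 1
  | n + 1 => PicF.pullCl (PicF.XTmap f (pwD f n)) (pwCl n) * pairCl f (pwX f n) (pwY f n)

theorem isInvertibleCl_pwCl : ∀ n, PicF.IsInvertibleCl (pwCl f n)
  | 0 => isInvertibleCl_one
  | n + 1 => isInvertibleCl_mul (FppfPic.isInvertibleCl_pull _ (isInvertibleCl_pwCl n)) (isInvertibleCl_pairCl f _ _)

theorem pull_pwCl_succ {n : ℕ} {T : Over S} (q : T ⟶ Pw f (n + 1)) :
    PicF.pullCl (PicF.XTmap f q) (pwCl f (n + 1)) =
      PicF.pullCl (PicF.XTmap f (q ≫ pwD f n)) (pwCl f n) * pairCl f (q ≫ pwX f n) (q ≫ pwY f n) := by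
  rw [pwCl, pullCl_mul, FppfPic.pullCl_XTmap_comp, pull_pairCl]

section Geom

variable [GeometricallyConnected f] {Ω : Type u} [Field Ω] [IsAlgClosed Ω] (σ : Spec (CommRingCat.of Ω) ⟶ S)
  [IsProper (fG f σ)] [Smooth (fG f σ)] [SmoothOfRelativeDimension 1 (fG f σ)] [GeometricallyIntegral (fG f σ)]

theorem clG'_gr {T : Over (Spec (CommRingCat.of Ω))} (x : T ⟶ Over.mk (fG f σ)) :
    clG' f σ (PicF.cl (ClSub.idealMod (gr (ptS f σ x)))) = idl (fG f σ) (gr x) := by
  have hcm : (gr (ptS f σ x)).comap (eT f σ T).inv = gr x := by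
    have hpb : IsPullback (sc x) (𝟙 T.left) (eT f σ T).inv (sc (ptS f σ x)) := by
      haveI : IsIso (𝟙 T.left) := inferInstanceAs (IsIso (Iso.refl T.left).hom)
      refine IsPullback.of_vert_isIso ⟨?_⟩
      rw [Category.id_comp, Iso.comp_inv_eq, sc_eT]
    haveI : IsClosedImmersion (sc (ptS f σ x)) := isClosedImmersion_sec f _ _ _
    exact (FComplLib.ker_of_isPullback hpb).symm
  show PicF.cl _ = _
  rw [Big.cl_idealMod_comap (eT f σ T).inv _
    (RelCurveDiv.isEffCartier_of_finLocFree _ _ (deg_secGraph f _ (ptS f σ x).left (Over.w (ptS f σ x))).1).1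
    (hcm ▸ (RelCurveDiv.isEffCartier_of_finLocFree _ _ (grObj (fG f σ) x).2.1).1), hcm]

theorem clG'_pairCl {T : Over (Spec (CommRingCat.of Ω))} (x y : T ⟶ Over.mk (fG f σ)) :
    clG' f σ (pairCl f (ptS f σ x) (ptS f σ y)) = oCl (fG f σ) (grObj (fG f σ) x) * idl (fG f σ) (gr y) := by
  rw [pairCl, clG'_mul, clG'_gr]
  refine congrArg (· * _) ?_
  show PicF.pullCl _ _ = _
  rw [pull_invCl, oCl]
  exact invCl_congr _ _ (clG'_gr f σ x)

theorem exists_ptS {T : Over (Spec (CommRingCat.of Ω))} (x : ovG σ T ⟶ Over.mk f) :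
    ∃ a : T ⟶ Over.mk (fG f σ), ptS f σ a = x :=
  ⟨Over.homMk (pullback.lift x.left T.hom (Over.w x)) (pullback.lift_snd _ _ _),
    Over.OverMorphism.ext (pullback.lift_fst _ _ _)⟩

theorem degCl_pairCl (hd : topologicalKrullDim ↥(pullback f σ) = 1) {T : Over (Spec (CommRingCat.of Ω))}
    (x y : T ⟶ Over.mk (fG f σ)) (t : T.left) :
    degCl (fG f σ) (oCl (fG f σ) (grObj (fG f σ) x) * idl (fG f σ) (gr y)) t = 0 := by
  have h2 : degCl (fG f σ) (idl (fG f σ) (gr y)) t = -1 := by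
    rw [← neg_eq_iff_eq_neg, ← degCl_invCl (fG f σ) hd (isInvertibleCl_idl (fG f σ) (grObj (fG f σ) y))]
    exact degCl_oCl (fG f σ) hd (grObj (fG f σ) y) t
  rw [degCl_mul (fG f σ) hd (isInvertibleCl_oCl (fG f σ) (grObj (fG f σ) x))
    (isInvertibleCl_idl (fG f σ) (grObj (fG f σ) y)), degCl_oCl (fG f σ) hd, h2]
  rfl

theorem degCl_pwCl (hd : topologicalKrullDim ↥(pullback f σ) = 1) {T : Over (Spec (CommRingCat.of Ω))} :
    ∀ (n : ℕ) (q : ovG σ T ⟶ Pw f n) (t : T.left),
      degCl (fG f σ) (clG' f σ (PicF.pullCl (PicF.XTmap f q) (pwCl f n))) t = 0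
  | 0, q, t => by rw [pwCl, pullCl_one, clG', pullCl_one, degCl_one]
  | n + 1, q, t => by
    obtain ⟨a, ha⟩ := exists_ptS f σ (q ≫ pwX f n)
    obtain ⟨b, hb⟩ := exists_ptS f σ (q ≫ pwY f n)
    rw [pull_pwCl_succ, clG'_mul, ← ha, ← hb, degCl_mul (fG f σ) hd
      (isInvertibleCl_clG' f σ (FppfPic.isInvertibleCl_pull _ (isInvertibleCl_pwCl f n)))
      (isInvertibleCl_clG' f σ (isInvertibleCl_pairCl f _ _)), degCl_pwCl hd n, clG'_pairCl, degCl_pairCl f σ hd,
      add_zero]

end Geom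

variable [GeometricallyConnected f] (hdim : ∀ s : S, topologicalKrullDim ↥(f.fiber s) = 1)

include hdim in
theorem isPicZeroCl_pwCl (n : ℕ) : AbDual.IsPicZeroCl f (Pw f n) (pwCl f n) := by
  refine (isPicZeroCl_iff f hdim _).2 ⟨isInvertibleCl_pwCl f n, fun z => ?_⟩
  let Ω := AlgebraicClosure ((Pw f n).left.residueField z)
  let gpt : Spec (CommRingCat.of Ω) ⟶ (Pw f n).left :=
    Spec.map (CommRingCat.ofHom (algebraMap ((Pw f n).left.residueField z) Ω)) ≫ (Pw f n).left.fromSpecResidueField z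
  let σ := gpt ≫ (Pw f n).hom
  obtain ⟨-, -, _, _, _, _, _, hd⟩ := curve_facts f σ hdim
  let T : Over (Spec (CommRingCat.of Ω)) := Over.mk (𝟙 _)
  let q : ovG σ T ⟶ Pw f n := Over.homMk gpt (by
    show gpt ≫ (Pw f n).hom = 𝟙 _ ≫ σ
    rw [Category.id_comp])
  have h := (deg0At_iff (fG f σ) _ (IsLocalRing.closedPoint Ω : Spec (CommRingCat.of Ω))).2
    (degCl_pwCl f σ hd n q _)
  rw [← deg0At_clG f σ (isInvertibleCl_clG' f σ (FppfPic.isInvertibleCl_pull _ (isInvertibleCl_pwCl f n))),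
    clG_clG', deg0At_iff_degC, degC_pull f _ (isInvertibleCl_pwCl f n)] at h
  have hq : q.left (IsLocalRing.closedPoint Ω : Spec (CommRingCat.of Ω)) = z :=
    (Scheme.Hom.comp_apply _ _ _).trans (Scheme.fromSpecResidueField_apply _ _)
  rw [hq] at h
  exact h

end Groth.Agent.PicRelC

end
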