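import Groth.Agent.PicRelC.PwGeom
import Groth.Agent.FibFlat.Core

/-!
# The difference map of divisors of points to the Jacobian is surjective and flat somewhere over every point
-/

noncomputable section

set_option autoImplicit false
set_option linter.style.haveILetI false
set_option linter.unusedSectionVars false
set_option backward.isDefEq.respectTransparency false
set_option backward.isDefEq.respectTransparency.types false
set_option maxHeartbeats 1000000
set_option synthInstance.maxHeartbeats 400000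
attribute [-instance] CategoryTheory.catToReflQuiver

universe u

open CategoryTheory CategoryTheory.Limits AlgebraicGeometry TopologicalSpace Opposite
  MonoidalCategory CartesianMonoidalCategory
open scoped MonObj

namespace Groth.Agent.PicRelC

open PicCurve PicCurve.Alb HilbDLib

/-- products of maps with a stable property have it -/
theorem tensor_prop (P : MorphismProperty Scheme.{u}) [P.IsStableUnderBaseChange] [P.IsStableUnderComposition]
    {S : Scheme.{u}} {A A' B B' : Over S} (a : A ⟶ A') (b : B ⟶ B') (ha : P a.left) (hb : P b.left) :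
    P (a ⊗ₘ b).left :=
  MorphismProperty.pullbackMap ha hb (Over.w a).symm (Over.w b).symm

/-- the rearrangement of two pairs -/
def rearr {S : Scheme.{u}} (A B X : Over S) : ((A ⊗ B) ⊗ X) ⊗ X ≅ (A ⊗ X) ⊗ (B ⊗ X) where
  hom := lift (lift (fst _ _ ≫ fst _ _ ≫ fst _ _) (snd _ _))
    (lift (fst _ _ ≫ fst _ _ ≫ snd _ _) (fst _ _ ≫ snd _ _))
  inv := lift (lift (lift (fst _ _ ≫ fst _ _) (snd _ _ ≫ fst _ _)) (snd _ _ ≫ snd _ _)) (fst _ _ ≫ snd _ _)
  hom_inv_id := by ext <;> simp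
  inv_hom_id := by ext <;> simp

/-- the shear of a group -/
def shear {S : Scheme.{u}} (J : Over S) [GrpObj J] : J ⊗ J ≅ J ⊗ J where
  hom := lift (fst J J / snd J J) (snd J J)
  inv := lift (fst J J * snd J J) (snd J J)
  hom_inv_id := by
    ext
    · simp [MonObj.comp_mul]
    · simp
  inv_hom_id := by
    ext
    · simp [GrpObj.comp_div]
    · simp

section Curve

variable {C S : Scheme.{u}} (f : C ⟶ S) [IsProper f] [Smooth f] [SmoothOfRelativeDimension 1 f]
  [GeometricallyConnected f] {Ω : Type u} [Field Ω] [IsAlgClosed Ω] (σ : Spec (CommRingCat.of Ω) ⟶ S)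
  [IsProper (fG f σ)] [Smooth (fG f σ)] [SmoothOfRelativeDimension 1 (fG f σ)] [GeometricallyIntegral (fG f σ)]
  [IsIntegral (pullback f σ)] (D : Tower (fG f σ))

theorem isIso_H0 : IsIso (D.H 0).hom := by
  have e : (D.H 0).hom ≫ (D.pt 0).left = 𝟙 _ := by
    let a : D.H 0 ⟶ D.H 0 := toUnit _ ≫ D.pt 0
    have h : a = 𝟙 _ := (D.univ 0 _ (D.Z 0)).unique
      (show HilbD.pull (fG f σ) a (D.Z 0).1 = (D.Z 0).1 by
        rw [RelCurveDiv.eq_top_of_deg_zero _ _ (isFinLocFreeOfDeg_pull (fG f σ) a _ (D.Z 0).2),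
          RelCurveDiv.eq_top_of_deg_zero _ _ (D.Z 0).2])
      (show HilbD.pull (fG f σ) (𝟙 _) (D.Z 0).1 = (D.Z 0).1 by
        rw [RelCurveDiv.eq_top_of_deg_zero _ _ (isFinLocFreeOfDeg_pull (fG f σ) (𝟙 _) _ (D.Z 0).2),
          RelCurveDiv.eq_top_of_deg_zero _ _ (D.Z 0).2])
    exact congr($(h).left)
  exact ⟨(D.pt 0).left, e, Over.w (D.pt 0)⟩

/-- the two divisors of a family of pairs form a flat surjective map -/
theorem flat_surjective_pwE : ∀ n, Flat (lift (pwE₁ f σ D n) (pwE₂ f σ D n)).left ∧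
    Surjective (lift (pwE₁ f σ D n) (pwE₂ f σ D n)).left
  | 0 => by
    haveI := isIso_H0 f σ D
    haveI : IsIso (D.H 0 ⊗ D.H 0).hom :=
      inferInstanceAs (IsIso (pullback.fst (D.H 0).hom (D.H 0).hom ≫ (D.H 0).hom))
    haveI : IsIso (lift (pwE₁ f σ D 0) (pwE₂ f σ D 0)).left := by
      haveI : IsIso ((lift (pwE₁ f σ D 0) (pwE₂ f σ D 0)).left ≫ (D.H 0 ⊗ D.H 0).hom) := by
        rw [Over.w]; exact inferInstanceAs (IsIso (𝟙 (Spec (CommRingCat.of Ω))))
      exact IsIso.of_isIso_comp_right _ (D.H 0 ⊗ D.H 0).hom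
    exact ⟨inferInstance, inferInstance⟩
  | n + 1 => by
    obtain ⟨hf, hs⟩ := flat_surjective_pwE n
    let L := lift (pwE₁ f σ D n) (pwE₂ f σ D n)
    let X := Over.mk (fG f σ)
    let m : D.H n ⊗ X ⟶ D.H (n + 1) := D.m n
    let M := ((L ⊗ₘ 𝟙 X) ⊗ₘ 𝟙 X) ≫ (rearr (D.H n) (D.H n) X).hom ≫ (m ⊗ₘ m)
    have hM : lift (pwE₁ f σ D (n + 1)) (pwE₂ f σ D (n + 1)) = M := by
      apply CartesianMonoidalCategory.hom_ext
      · simp only [M, rearr, Category.assoc, tensorHom_fst, lift_fst, lift_fst_assoc, comp_lift_assoc]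
        show pair _ _ ≫ D.m n = _
        refine congrArg (· ≫ D.m n) ?_
        ext
        · simp [L, pwD]
          rfl
      · simp only [M, rearr, Category.assoc, tensorHom_snd, lift_snd, lift_snd_assoc, comp_lift_assoc]
        show pair _ _ ≫ D.m n = _
        refine congrArg (· ≫ D.m n) ?_
        ext
        · simp [L, pwD]
          rfl
    have hiso : IsIso (rearr (D.H n) (D.H n) X).hom.left :=
      (Over.forget _).map_isIso (rearr (D.H n) (D.H n) X).hom
    rw [hM]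
    haveI : IsIso (𝟙 X.left) := inferInstance
    constructor
    · haveI : Flat ((L ⊗ₘ 𝟙 X) ⊗ₘ 𝟙 X).left :=
        tensor_prop @Flat _ _ (tensor_prop @Flat _ _ hf (inferInstanceAs (Flat (𝟙 X.left)))) (inferInstanceAs (Flat (𝟙 X.left)))
      haveI : Flat (m ⊗ₘ m).left := tensor_prop @Flat _ _ (D.flat_m n) (D.flat_m n)
      exact inferInstanceAs (Flat (((L ⊗ₘ 𝟙 X) ⊗ₘ 𝟙 X).left ≫ (rearr (D.H n) (D.H n) X).hom.left ≫ (m ⊗ₘ m).left))
    · haveI : Surjective ((L ⊗ₘ 𝟙 X) ⊗ₘ 𝟙 X).left :=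
        tensor_prop @Surjective _ _ (tensor_prop @Surjective _ _ hs (inferInstanceAs (Surjective (𝟙 X.left))))
          (inferInstanceAs (Surjective (𝟙 X.left)))
      haveI : Surjective (m ⊗ₘ m).left := tensor_prop @Surjective _ _ (D.surjective_m n) (D.surjective_m n)
      exact inferInstanceAs
        (Surjective (((L ⊗ₘ 𝟙 X) ⊗ₘ 𝟙 X).left ≫ (rearr (D.H n) (D.H n) X).hom.left ≫ (m ⊗ₘ m).left))

variable (hdim : ∀ s : S, topologicalKrullDim ↥(f.fiber s) = 1)
  (p : Spec (CommRingCat.of Ω) ⟶ pullback f σ) (hp : p ≫ fG f σ = 𝟙 _)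
  {J : Over (Spec (CommRingCat.of Ω))} [IsProper J.hom] [IrreducibleSpace J.left] (ξ : PicF.Rig (fG f σ) p hp J)
  (hξ : FGA.HasFibreDegreeZeroCl (fG f σ) J ξ.1)
  (huniv : ∀ (T : Over (Spec (CommRingCat.of Ω))) (c : PicF.Rig (fG f σ) p hp T),
    FGA.HasFibreDegreeZeroCl (fG f σ) T c.1 → ∃! g : T ⟶ J, PicF.pullCl (PicF.XTmap (fG f σ) g) ξ.1 = c.1)

/-- over every point of the Jacobian the difference map has a point of flatness -/
theorem exists_flat_point (z : J.left) :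
    ∃ w : (Pw (fG f σ) (gen (fG f σ))).left, (pwΨ f σ D hdim p hp ξ hξ huniv (gen (fG f σ))).left w = z ∧
      ((pwΨ f σ D hdim p hp ξ hξ huniv (gen (fG f σ))).left.stalkMap w).hom.Flat := by
  have hd := curveDim f σ hdim
  letI := jacGrpObj (fG f σ) hd p hp ξ hξ huniv
  let g := gen (fG f σ)
  let Φ := toJ (fG f σ) hd p hp ξ hξ huniv D g
  let U := goodU (fG f σ) p hp ξ
  let W : (D.H g).left.Opens := Φ.left ⁻¹ᵁ U
  obtain ⟨sec, hsec⟩ := exists_lift (fG f σ) hd p hp ξ hξ huniv D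
  let OU := AbDual.ovr J U.ι
  let OW := AbDual.ovr (D.H g) W.ι
  let i : OW ⟶ D.H g := AbDual.ovrHom (D.H g) W.ι
  let jU : OU ⟶ J := AbDual.ovrHom J U.ι
  let r : OW ⟶ OU := Over.homMk (Φ.left.resLE U W le_rfl) (by
    show _ ≫ U.ι ≫ J.hom = W.ι ≫ (D.H g).hom
    rw [Scheme.Hom.resLE_comp_ι_assoc, Over.w Φ])
  have hr : r ≫ jU = i ≫ Φ := Over.OverMorphism.ext (Scheme.Hom.resLE_comp_ι _ _)
  have hsec' : ∀ t, Φ.left (sec.left t) = U.ι t := fun t => congr($(hsec).left t)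
  let sW : OU ⟶ OW := Over.homMk (IsOpenImmersion.lift W.ι sec.left (by
      rintro _ ⟨t, rfl⟩
      refine (Scheme.Opens.range_ι W).ge ?_
      show Φ.left (sec.left t) ∈ U
      exact (hsec' t).symm ▸ t.2)) (by
      show _ ≫ W.ι ≫ (D.H g).hom = _
      rw [IsOpenImmersion.lift_fac_assoc]
      exact Over.w sec)
  have hsW : sW ≫ i = sec := Over.OverMorphism.ext (IsOpenImmersion.lift_fac _ _ _)
  haveI : Mono i := ⟨fun a b h => Over.OverMorphism.ext ((cancel_mono W.ι).1 congr($(h).left))⟩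
  haveI : Mono jU := ⟨fun a b h => Over.OverMorphism.ext ((cancel_mono U.ι).1 congr($(h).left))⟩
  haveI : IsIso r := ⟨sW, by
      rw [← cancel_mono i, Category.assoc, hsW, Category.id_comp]
      refine toJ_inj (fG f σ) hd p hp ξ hξ huniv D _ _ (fun t => ?_) ?_
      · show Φ.left (sec.left (r.left t)) ∈ U
        rw [hsec']
        exact (r.left t).2
      · rw [Category.assoc, hsec]
        exact hr,
    by
      rw [← cancel_mono jU, Category.assoc, hr, ← Category.assoc, hsW, Category.id_comp]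
      exact hsec⟩
  haveI : IsIso r.left := (Over.forget _).map_isIso r
  haveI : IsOpenImmersion jU.left := inferInstanceAs (IsOpenImmersion U.ι)
  haveI : IsOpenImmersion i.left := inferInstanceAs (IsOpenImmersion W.ι)
  have hoi : IsOpenImmersion (i ≫ Φ).left := by
    rw [← hr]; exact inferInstanceAs (IsOpenImmersion (r.left ≫ jU.left))
  let G := ((i ≫ Φ) ⊗ₘ (i ≫ Φ)) ≫ (shear J).hom ≫ fst J J
  haveI : LocallyOfFinitePresentation J.hom := inferInstance
  haveI hGflat : Flat G.left ∧ LocallyOfFinitePresentation G.left := by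
    haveI : IsOpenImmersion ((i ≫ Φ) ⊗ₘ (i ≫ Φ)).left := tensor_prop @IsOpenImmersion _ _ hoi hoi
    haveI : IsIso (shear J).hom.left := (Over.forget _).map_isIso (shear J).hom
    haveI : Flat (fst J J).left := inferInstanceAs (Flat (pullback.fst J.hom J.hom))
    haveI : LocallyOfFinitePresentation (fst J J).left :=
      inferInstanceAs (LocallyOfFinitePresentation (pullback.fst J.hom J.hom))
    exact ⟨inferInstanceAs (Flat (((i ≫ Φ) ⊗ₘ (i ≫ Φ)).left ≫ (shear J).hom.left ≫ (fst J J).left)),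
      inferInstanceAs (LocallyOfFinitePresentation (((i ≫ Φ) ⊗ₘ (i ≫ Φ)).left ≫ (shear J).hom.left ≫ (fst J J).left))⟩
  haveI := hGflat.1; haveI := hGflat.2
  have hG : G = ((fst OW OW ≫ i) ≫ Φ) / ((snd OW OW ≫ i) ≫ Φ) := by
    simp [G, shear, GrpObj.comp_div]
  -- the image is everything
  have hGsurj : Surjective G.left := by
    refine ⟨fun y => ?_⟩
    by_contra hy
    haveI : JacobsonSpace ↥J.left := LocallyOfFiniteType.jacobsonSpace J.hom
    obtain ⟨v, hvZ, hv⟩ := nonempty_inter_closedPoints (X := ↥J.left) (Z := (Set.range G.left)ᶜ) ⟨y, hy⟩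
      G.left.isOpenMap.isOpen_range.isClosed_compl.isLocallyClosed
    let av := (pointEquivClosedPoint J.hom).symm ⟨v, hv⟩
    have hav : av.1 (IsLocalRing.closedPoint Ω) = v :=
      congrArg Subtype.val ((pointEquivClosedPoint J.hom).apply_symm_apply ⟨v, hv⟩)
    let a : 𝟙_ (Over (Spec (CommRingCat.of Ω))) ⟶ J := Over.homMk av.1 av.2
    let τ : J ⟶ J := (toUnit J ≫ a) * 𝟙 J
    haveI : IsIso τ := ⟨(toUnit J ≫ a⁻¹) * 𝟙 J, by
        simp only [τ, MonObj.comp_mul, ← Category.assoc, Category.comp_id, comp_toUnit, GrpObj.comp_inv,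
          ← _root_.mul_assoc, inv_mul_cancel, _root_.one_mul],
      by
        simp only [τ, MonObj.comp_mul, ← Category.assoc, Category.comp_id, comp_toUnit, GrpObj.comp_inv,
          ← _root_.mul_assoc, mul_inv_cancel, _root_.one_mul]⟩
    haveI : IsIso τ.left := (Over.forget _).map_isIso τ
    obtain ⟨y₀, hy₀⟩ := goodU_nonempty (fG f σ) hd p hp ξ hξ huniv
    obtain ⟨y₁, hy₁⟩ := τ.left.surjective y₀
    obtain ⟨c₀, hc₀⟩ := nonempty_preirreducible_inter (U.isOpen) ((τ.left ⁻¹ᵁ U).isOpen) ⟨y₀, hy₀⟩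
      ⟨y₁, show τ.left y₁ ∈ U by rw [hy₁]; exact hy₀⟩
    obtain ⟨c₁, hc₁, hc₁'⟩ := nonempty_inter_closedPoints (X := ↥J.left) (Z := (U : Set J.left) ∩ (τ.left ⁻¹ᵁ U : J.left.Opens))
      ⟨c₀, hc₀⟩ ((U.isOpen.inter (τ.left ⁻¹ᵁ U).isOpen).isLocallyClosed)
    let cv := (pointEquivClosedPoint J.hom).symm ⟨c₁, hc₁'⟩
    have hcv : cv.1 (IsLocalRing.closedPoint Ω) = c₁ :=
      congrArg Subtype.val ((pointEquivClosedPoint J.hom).apply_symm_apply ⟨c₁, hc₁'⟩)
    let c : 𝟙_ (Over (Spec (CommRingCat.of Ω))) ⟶ J := Over.homMk cv.1 cv.2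
    have hmem : ∀ b : 𝟙_ (Over (Spec (CommRingCat.of Ω))) ⟶ J,
        b.left (IsLocalRing.closedPoint Ω : Spec (CommRingCat.of Ω)) ∈ U →
        ∃ b' : 𝟙_ (Over (Spec (CommRingCat.of Ω))) ⟶ OW, b' ≫ i ≫ Φ = b := fun b hb => by
      have hsub : Set.range b.left ⊆ Set.range U.ι := by
        rintro _ ⟨t, rfl⟩
        rw [Scheme.Opens.range_ι, @Subsingleton.elim (Spec (CommRingCat.of Ω))
          (inferInstanceAs (Subsingleton (PrimeSpectrum Ω))) t (IsLocalRing.closedPoint Ω : Spec (CommRingCat.of Ω))]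
        exact hb
      let bU : 𝟙_ (Over (Spec (CommRingCat.of Ω))) ⟶ OU := Over.homMk (IsOpenImmersion.lift U.ι b.left hsub) (by
        show _ ≫ U.ι ≫ J.hom = _
        rw [IsOpenImmersion.lift_fac_assoc]
        exact Over.w b)
      refine ⟨bU ≫ inv r, ?_⟩
      rw [Category.assoc, ← hr, IsIso.inv_hom_id_assoc]
      exact Over.OverMorphism.ext (IsOpenImmersion.lift_fac _ _ _)
    obtain ⟨b₁, hb₁⟩ := hmem (a * c) (by
      have : c ≫ τ = a * c := by
        simp only [τ, MonObj.comp_mul, Category.comp_id, ← Category.assoc, comp_toUnit]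
        simp
      rw [← this, Over.comp_left, Scheme.Hom.comp_apply, show c.left (IsLocalRing.closedPoint Ω : Spec (CommRingCat.of Ω)) = c₁ from hcv]
      exact hc₁.2)
    obtain ⟨b₂, hb₂⟩ := hmem c (by
      rw [show c.left (IsLocalRing.closedPoint Ω : Spec (CommRingCat.of Ω)) = c₁ from hcv]
      exact hc₁.1)
    refine hvZ ⟨(lift b₁ b₂).left (IsLocalRing.closedPoint Ω : Spec (CommRingCat.of Ω)), ?_⟩
    rw [← Scheme.Hom.comp_apply, ← Over.comp_left, hG, GrpObj.comp_div]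
    simp only [lift_fst_assoc, lift_snd_assoc, Category.assoc, hb₁, hb₂, mul_div_cancel_right]
    exact hav
  obtain ⟨q, hq⟩ := hGsurj.surj z
  let L := lift (pwE₁ f σ D g) (pwE₂ f σ D g)
  haveI := (flat_surjective_pwE f σ D g).1
  obtain ⟨w, hw⟩ := (flat_surjective_pwE f σ D g).2.surj ((i ⊗ₘ i).left q)
  haveI : IsOpenImmersion (i ⊗ₘ i).left := tensor_prop @IsOpenImmersion _ _ ‹_› ‹_›
  let Φ₂ : D.H g ⊗ D.H g ⟶ J := (fst _ _ ≫ Φ) / (snd _ _ ≫ Φ)
  have hΦ₂ : (i ⊗ₘ i) ≫ Φ₂ = G := by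
    rw [hG]
    simp [Φ₂, GrpObj.comp_div]
  have hΨ : L ≫ Φ₂ = pwΨ f σ D hdim p hp ξ hξ huniv g := by
    simp [L, Φ₂, pwΨ, GrpObj.comp_div]
    rfl
  refine ⟨w, ?_, ?_⟩
  · rw [← hΨ, Over.comp_left, Scheme.Hom.comp_apply, hw, ← Scheme.Hom.comp_apply, ← Over.comp_left, hΦ₂, hq]
  · rw [← hΨ, Over.comp_left, Scheme.Hom.stalkMap_comp]
    refine RingHom.Flat.comp ?_ (Flat.stalkMap L.left w)
    show (Φ₂.left.stalkMap (L.left w)).hom.Flat
    rw [show L.left w = (i ⊗ₘ i).left q from hw, ← FibFlat.flat_stalk_open_comp]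
    have : (i ⊗ₘ i).left ≫ Φ₂.left = G.left := congr($(hΦ₂).left)
    rw [this]
    exact Flat.stalkMap _ _

end Curve

end Groth.Agent.PicRelC

end
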