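import Groth.Agent.PicRelC.Pw

/-!
# Differences of divisors of points over a geometric point of the base
-/

noncomputable section

set_option autoImplicit false
set_option linter.style.haveILetI false
set_option linter.unusedSectionVars false
set_option backward.isDefEq.respectTransparency false
set_option backward.isDefEq.respectTransparency.types false
set_option maxHeartbeats 1000000
set_option synthInstance.maxHeartbeats 400000
attribute [-instance] CategoryTheory.catToReflQuiver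

universe u

open CategoryTheory CategoryTheory.Limits AlgebraicGeometry TopologicalSpace Opposite
  MonoidalCategory CartesianMonoidalCategory
open scoped MonObj
open Groth.Agent.H23.PicMul

namespace Groth.Agent.PicRelC

open PicCurve PicCurve.Alb HilbDLib

section Base

variable {C S : Scheme.{u}} (f : C ⟶ S) [IsSeparated f] {Ω : Type u} [Field Ω] (σ : Spec (CommRingCat.of Ω) ⟶ S)

/-- adjoining a point commutes with the change of base -/
def stepT {H : Over S} {H' : Over (Spec (CommRingCat.of Ω))} (τ : ovG σ H' ⟶ H) :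
    ovG σ (HX (fG f σ) H') ⟶ HX f H :=
  pair (ovGmap σ (prH (fG f σ) H') ≫ τ)
    (Over.homMk ((prX (fG f σ) H').left ≫ pullback.fst f σ) (by
      show ((prX (fG f σ) H').left ≫ pullback.fst f σ) ≫ f = (HX (fG f σ) H').hom ≫ σ
      rw [Category.assoc, pullback.condition, ← Category.assoc,
        show (prX (fG f σ) H').left ≫ pullback.snd f σ = (HX (fG f σ) H').hom from Over.w (prX (fG f σ) H')]))

theorem isPullback_stepT {H : Over S} {H' : Over (Spec (CommRingCat.of Ω))} (τ : ovG σ H' ⟶ H)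
    (hτ : IsPullback τ.left H'.hom H.hom σ) :
    IsPullback (stepT f σ τ).left (HX (fG f σ) H').hom (HX f H).hom σ := by
  refine IsPullback.paste_vert (v₁₁ := pullback.fst H'.hom (fG f σ)) (v₁₂ := pullback.fst H.hom f) ?_ hτ
  refine IsPullback.of_right ?_ (pullback.lift_fst _ _ _) (IsPullback.of_hasPullback H.hom f).flip
  rw [show (stepT f σ τ).left ≫ pullback.snd H.hom f = pullback.snd H'.hom (fG f σ) ≫ pullback.fst f σ from
      pullback.lift_snd _ _ _,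
    show τ.left ≫ H.hom = H'.hom ≫ σ from Over.w τ]
  exact (IsPullback.of_hasPullback H'.hom (fG f σ)).flip.paste_horiz (IsPullback.of_hasPullback f σ)

/-- pairs of points over the point as pairs of points over the base -/
def pwT : ∀ n, ovG σ (Pw (fG f σ) n) ⟶ Pw f n
  | 0 => Over.homMk σ (by
      show σ ≫ 𝟙 S = 𝟙 _ ≫ σ
      simp)
  | n + 1 => stepT f σ (stepT f σ (pwT n))

theorem isPullback_pwT : ∀ n, IsPullback (pwT f σ n).left (Pw (fG f σ) n).hom (Pw f n).hom σ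
  | 0 => IsPullback.of_vert_isIso (fst := σ) (f := 𝟙 S) (snd := 𝟙 _) ⟨by simp⟩
  | n + 1 => isPullback_stepT f σ _ (isPullback_stepT f σ _ (isPullback_pwT n))

theorem pwT_D (n : ℕ) : pwT f σ (n + 1) ≫ pwD f n = ovGmap σ (pwD (fG f σ) n) ≫ pwT f σ n := by
  refine (pair_prH_assoc _ _ _).trans ?_
  show (ovGmap σ (prH (fG f σ) _) ≫ stepT f σ (pwT f σ n)) ≫ prH f _ = _
  rw [Category.assoc, stepT, pair_prH, ← Category.assoc]
  rfl

theorem pwT_X (n : ℕ) : (pwT f σ (n + 1) ≫ pwX f n).left = (pwX (fG f σ) n).left ≫ pullback.fst f σ :=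
  congrArg Over.Hom.left (pair_prX _ _)

theorem pwT_Y (n : ℕ) : (pwT f σ (n + 1) ≫ pwY f n).left = (pwY (fG f σ) n).left ≫ pullback.fst f σ := by
  have h : pwT f σ (n + 1) ≫ pwY f n = ovGmap σ (prH (fG f σ) _) ≫ stepT f σ (pwT f σ n) ≫ prX f _ := by
    refine (pair_prH_assoc _ _ _).trans ?_
    exact Category.assoc _ _ _
  rw [h, stepT, pair_prX]
  exact (Category.assoc _ _ _).symm

end Base

variable {C S : Scheme.{u}} (f : C ⟶ S) [IsProper f] [Smooth f] [SmoothOfRelativeDimension 1 f]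
  [GeometricallyConnected f] {Ω : Type u} [Field Ω] [IsAlgClosed Ω] (σ : Spec (CommRingCat.of Ω) ⟶ S)
  [IsProper (fG f σ)] [Smooth (fG f σ)] [SmoothOfRelativeDimension 1 (fG f σ)] [GeometricallyIntegral (fG f σ)]
  [IsIntegral (pullback f σ)] (D : Tower (fG f σ))

/-- the divisor of the first points -/
def pwE₁ : ∀ n, Pw (fG f σ) n ⟶ D.H n
  | 0 => toUnit _ ≫ D.pt 0
  | n + 1 => pair (pwD (fG f σ) n ≫ pwE₁ n) (pwX (fG f σ) n) ≫ D.m n

/-- the divisor of the second points -/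
def pwE₂ : ∀ n, Pw (fG f σ) n ⟶ D.H n
  | 0 => toUnit _ ≫ D.pt 0
  | n + 1 => pair (pwD (fG f σ) n ≫ pwE₂ n) (pwY (fG f σ) n) ≫ D.m n

/-- a divisor pulled back -/
abbrev pullZ {T : Over (Spec (CommRingCat.of Ω))} {n : ℕ} (h : T ⟶ D.H n) : HilbD.Obj (fG f σ) n T :=
  ⟨HilbD.pull (fG f σ) h (D.Z n).1, isFinLocFreeOfDeg_pull (fG f σ) h (D.Z n).1 (D.Z n).2⟩

theorem pullZ_pair {T : Over (Spec (CommRingCat.of Ω))} (n : ℕ) (h : T ⟶ D.H n) (x : T ⟶ Over.mk (fG f σ)) :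
    (pullZ f σ D (pair h x ≫ D.m n)).1 = (pullZ f σ D h).1 * gr x := by
  show HilbD.pull (fG f σ) (pair h x ≫ D.m n) (D.Z (n + 1)).1 = _
  rw [← pull_pull, D.pull_m, HilbDLib.pull_mul, pull_pull, pull_gr, pair_prH, pair_prX]

theorem clG'_pwCl : ∀ n, clG' f σ (PicF.pullCl (PicF.XTmap f (pwT f σ n)) (pwCl f n)) =
    oCl (fG f σ) (pullZ f σ D (pwE₁ f σ D n)) * idl (fG f σ) (pullZ f σ D (pwE₂ f σ D n)).1
  | 0 => by
    rw [pwCl, pullCl_one, clG', pullCl_one]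
    exact (invCl_mul _).symm
  | n + 1 => by
    have e1 : pwT f σ (n + 1) ≫ pwX f n = ptS f σ (pwX (fG f σ) n) := Over.OverMorphism.ext (pwT_X f σ n)
    have e2 : pwT f σ (n + 1) ≫ pwY f n = ptS f σ (pwY (fG f σ) n) := Over.OverMorphism.ext (pwT_Y f σ n)
    rw [pull_pwCl_succ, clG'_mul, pwT_D, ← FppfPic.pullCl_XTmap_comp, clG'_pull, clG'_pwCl n, e1, e2, clG'_pairCl,
      pullCl_mul, pull_oCl, pull_idl, mul_mul_mul_comm, ← idl_mul (fG f σ) ⟨_, isFinLocFreeOfDeg_pull _ _ _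
        (pullZ f σ D (pwE₂ f σ D n)).2⟩ (grObj (fG f σ) _)]
    refine congr (congrArg HMul.hMul (oCl_mul (fG f σ) ⟨_, isFinLocFreeOfDeg_pull _ _ _
      (pullZ f σ D (pwE₁ f σ D n)).2⟩ (grObj (fG f σ) _) _ ?_).symm) ?_
    · show (pullZ f σ D (pair _ _ ≫ D.m n)).1 = _
      rw [pullZ_pair]
      exact congrArg (· * _) (pull_pull _ _ _ _).symm
    · refine congrArg (idl (fG f σ)) ?_
      show _ = (pullZ f σ D (pair _ _ ≫ D.m n)).1
      rw [pullZ_pair]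
      exact congrArg (· * _) (pull_pull _ _ _ _)

variable (hdim : ∀ s : S, topologicalKrullDim ↥(f.fiber s) = 1)
  {P₀ : Over S} {φ₀ : ∀ T : Over S, PicF.Cl (PicF.XT f T) → (T ⟶ P₀)}
  (hP₀ : AbDual.IsRelPicZeroK Scheme.fppfPrecoverage f P₀ φ₀)
  (p : Spec (CommRingCat.of Ω) ⟶ pullback f σ) (hp : p ≫ fG f σ = 𝟙 _)
  {J : Over (Spec (CommRingCat.of Ω))} [IsProper J.hom] (ξ : PicF.Rig (fG f σ) p hp J)
  (hξ : FGA.HasFibreDegreeZeroCl (fG f σ) J ξ.1)
  (huniv : ∀ (T : Over (Spec (CommRingCat.of Ω))) (c : PicF.Rig (fG f σ) p hp T),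
    FGA.HasFibreDegreeZeroCl (fG f σ) T c.1 → ∃! g : T ⟶ J, PicF.pullCl (PicF.XTmap (fG f σ) g) ξ.1 = c.1)

/-- the difference of the two divisors in the Jacobian -/
def pwΨ (n : ℕ) : Pw (fG f σ) n ⟶ J :=
  letI := jacGrpObj (fG f σ) (curveDim f σ hdim) p hp ξ hξ huniv
  (pwE₁ f σ D n ≫ toJ (fG f σ) (curveDim f σ hdim) p hp ξ hξ huniv D n) /
    (pwE₂ f σ D n ≫ toJ (fG f σ) (curveDim f σ hdim) p hp ξ hξ huniv D n)

include hP₀ in
/-- the map of pairs of points to the degree zero Picard scheme on a geometric fibre -/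
theorem pwΨ_toP₀ (n : ℕ) :
    ovGmap σ (pwΨ f σ D hdim p hp ξ hξ huniv n) ≫ toP₀ (φ₀ := φ₀) f σ p hp ξ =
      pwT f σ n ≫ φ₀ (Pw f n) (pwCl f n) := by
  have hd := curveDim f σ hdim
  letI := jacGrpObj (fG f σ) hd p hp ξ hξ huniv
  set Ψ := pwΨ f σ D hdim p hp ξ hξ huniv n
  let a₁ := pwE₁ f σ D n ≫ toJ (fG f σ) hd p hp ξ hξ huniv D n
  let a₂ := pwE₂ f σ D n ≫ toJ (fG f σ) hd p hp ξ hξ huniv D n
  let I₁ := pullZ f σ D (pwE₁ f σ D n)
  let I₂ := pullZ f σ D (pwE₂ f σ D n)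
  have h₁ : rigPull (fG f σ) p hp a₁ ξ = divRig (fG f σ) p hp n I₁ := by
    rw [← rigPull_comp, rigPull_toJ, rigPull_divRig]
  have h₂ : rigPull (fG f σ) p hp a₂ ξ = divRig (fG f σ) p hp n I₂ := by
    rw [← rigPull_comp, rigPull_toJ, rigPull_divRig]
  have hΨ : Ψ * a₂ = a₁ := div_mul_cancel a₁ a₂
  have hm := jac_pull_mul (fG f σ) hd p hp ξ hξ huniv Ψ a₂
  rw [hΨ] at hm
  change (rigPull (fG f σ) p hp a₁ ξ).1 = (rigPull (fG f σ) p hp Ψ ξ).1 * (rigPull (fG f σ) p hp a₂ ξ).1 at hm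
  rw [h₁, h₂] at hm
  change oCl (fG f σ) I₁ * tw (fG f σ) (δ p) _ ^ n * PicF.pullCl _ _ =
    _ * (oCl (fG f σ) I₂ * tw (fG f σ) (δ p) _ ^ n * PicF.pullCl _ _) at hm
  set t := tw (fG f σ) (δ p) (Pw (fG f σ) n) ^ n
  set N₁ := invCl (FppfPic.isInvertibleCl_pull (PicF.secT (fG f σ) p hp (Pw (fG f σ) n))
    (isInvertibleCl_divCl (fG f σ) p hp n I₁))
  set N₂ := invCl (FppfPic.isInvertibleCl_pull (PicF.secT (fG f σ) p hp (Pw (fG f σ) n))
    (isInvertibleCl_divCl (fG f σ) p hp n I₂))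
  have hN₂ : PicF.IsInvertibleCl N₂ := isInvertibleCl_invCl _
  have ht : PicF.IsInvertibleCl t := isInvertibleCl_pow (isInvertibleCl_tw (isInvertibleCl_δ (fG f σ) p hp) _) n
  have key : (rigPull (fG f σ) p hp Ψ ξ).1 = oCl (fG f σ) I₁ * idl (fG f σ) I₂.1 *
      PicF.pullCl (PicF.XTproj (fG f σ) _) (N₁ * invCl hN₂) := by
    refine eq_of_invCl_mul (isInvertibleCl_mul (isInvertibleCl_mul (isInvertibleCl_oCl (fG f σ) I₂) ht)
      (FppfPic.isInvertibleCl_pull (PicF.XTproj (fG f σ) _) hN₂)) (hm.symm.trans ?_)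
    have e1 : idl (fG f σ) I₂.1 * oCl (fG f σ) I₂ = 1 := mul_invCl _
    have e2 : PicF.pullCl (PicF.XTproj (fG f σ) (Pw (fG f σ) n)) (invCl hN₂) *
        PicF.pullCl (PicF.XTproj (fG f σ) _) N₂ = 1 := by
      rw [← pullCl_mul, invCl_mul, pullCl_one]
    rw [pullCl_mul]
    calc oCl (fG f σ) I₁ * t * PicF.pullCl (PicF.XTproj (fG f σ) _) N₁
        = oCl (fG f σ) I₁ * t * PicF.pullCl (PicF.XTproj (fG f σ) _) N₁ * (idl (fG f σ) I₂.1 * oCl (fG f σ) I₂) *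
          (PicF.pullCl (PicF.XTproj (fG f σ) _) (invCl hN₂) * PicF.pullCl (PicF.XTproj (fG f σ) _) N₂) := by
          rw [e1, e2, _root_.mul_one, _root_.mul_one]
      _ = _ := by ac_rfl
  have hcl : clG' f σ (PicF.pullCl (PicF.XTmap f (pwT f σ n)) (pwCl f n)) = oCl (fG f σ) I₁ * idl (fG f σ) I₂.1 :=
    clG'_pwCl f σ D n
  rw [ovGmap_toP₀ f hdim hP₀ σ p hp ξ hξ, ← hP₀.natural _ _ _ _ (isPicZeroCl_pwCl f hdim n)]
  have hz := isPicZeroCl_pull f hdim (pwT f σ n) (isPicZeroCl_pwCl f hdim n)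
  have e : clG f σ (rigPull (fG f σ) p hp Ψ ξ).1 =
      PicF.pullCl (PicF.XTmap f (pwT f σ n)) (pwCl f n) *
        PicF.pullCl (PicF.XTproj f (ovG σ (Pw (fG f σ) n))) (N₁ * invCl hN₂) := by
    rw [key, clG_mul, ← hcl, clG_clG']
    congr 1
    show PicF.pullCl _ (PicF.pullCl _ _) = _
    rw [PicClLib.pullCl_comp, eT_snd]
  rw [e]
  exact φ₀_mul_base f hdim hP₀ hz (isInvertibleCl_mul (isInvertibleCl_invCl _) (isInvertibleCl_invCl _))
    (e ▸ isPicZeroCl_clG f hdim hP₀ σ p hp (c := rigPull (fG f σ) p hp Ψ ξ)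
      (rig0Pull (fG f σ) p hp Ψ ⟨ξ, hξ⟩).2)

include hP₀ in
theorem isPullback_pwT_Ψ (n : ℕ) :
    IsPullback (pwT f σ n).left (pwΨ f σ D hdim p hp ξ hξ huniv n).left (φ₀ (Pw f n) (pwCl f n)).left
      (toP₀ (φ₀ := φ₀) f σ p hp ξ).left := by
  refine IsPullback.of_bot ?_ ?_ (isPullback_toP₀ f hdim hP₀ σ p hp ξ hξ huniv)
  · rw [show (pwΨ f σ D hdim p hp ξ hξ huniv n).left ≫ J.hom = (Pw (fG f σ) n).hom from Over.w _,
      show (φ₀ (Pw f n) (pwCl f n)).left ≫ P₀.hom = (Pw f n).hom from Over.w _]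
    exact isPullback_pwT f σ n
  · exact congr($(pwΨ_toP₀ f σ D hdim hP₀ p hp ξ hξ huniv n).left).symm

end Groth.Agent.PicRelC

end
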